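import Groth.Agent.FibreDimChart.Basic
import Groth.Agent.SyntDim.Dim

/-!
# The fibre dimension of a smooth morphism of given relative dimension
-/

set_option autoImplicit false
universe u

open AlgebraicGeometry CategoryTheory TopologicalSpace Topology MvPolynomial
open scoped TensorProduct

namespace Groth.Agent.FibreDimChart

/-- A nonzero standard smooth algebra of relative dimension `n` over a field has dimension `n`. -/
theorem ringKrullDim_of_standardSmooth {K A : Type u} [Field K] [CommRing A] [Algebra K A]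
    [Nontrivial A] (n : ℕ) [h : Algebra.IsStandardSmoothOfRelativeDimension n K A] :
    ringKrullDim A = (n : WithBot ℕ∞) := by
  classical
  obtain ⟨ι, σ, hσ, hι, P, hP⟩ := h.out
  obtain ⟨m, ⟨e⟩⟩ := Finite.exists_equiv_fin ι
  obtain ⟨c, ⟨e'⟩⟩ := Finite.exists_equiv_fin σ
  let Q := P.reindex e.symm e'.symm
  have hcard : n = m - c := by
    have h1 : P.dimension = Nat.card ι - Nat.card σ := rfl
    rw [← hP, h1, Nat.card_congr e, Nat.card_congr e', Nat.card_fin, Nat.card_fin]
  let φ : MvPolynomial (Fin m) K →ₐ[K] A := aeval Q.val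
  have hφ : Function.Surjective φ := fun x => ⟨Q.σ x, Q.aeval_val_σ x⟩
  have hker : RingHom.ker φ.toRingHom = Ideal.span (Set.range Q.relation) := by
    rw [Q.span_range_relation_eq_ker]; exact Q.toPresentation.ker_eq_ker_aeval_val.symm
  have hunit : IsUnit (φ (Matrix.of fun j k => pderiv (Q.map k) (Q.relation j)).det) := by
    have h := Q.jacobian_isUnit
    rw [Q.jacobian_eq_jacobiMatrix_det] at h
    have hmat : (Matrix.of fun j k => pderiv (Q.map k) (Q.relation j)) = Q.jacobiMatrix.transpose := by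
      ext j k; simp [Algebra.PreSubmersivePresentation.jacobiMatrix_apply]
    rw [hmat, Matrix.det_transpose]
    exact h
  let E : (MvPolynomial (Fin m) K ⧸ Ideal.span (Set.range Q.relation)) ≃+* A :=
    (Ideal.quotEquivOfEq hker.symm).trans (RingHom.quotientKerEquivOfSurjective hφ)
  have := E.toEquiv.nontrivial
  rw [← ringKrullDim_eq_of_ringEquiv E, hcard]
  refine le_antisymm (SyntDim.ringKrullDim_quotient_le _ fun m' hm' hfm => ⟨Q.map, fun hd => ?_⟩) ?_
  · have hJm : Ideal.span (Set.range Q.relation) ≤ m' :=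
      Ideal.span_le.mpr (by rintro _ ⟨j, rfl⟩; exact hfm j)
    obtain ⟨y, hy⟩ := hunit.exists_left_inv
    obtain ⟨y, rfl⟩ := hφ y
    have h1 : y * (Matrix.of fun j k => pderiv (Q.map k) (Q.relation j)).det - 1 ∈
        Ideal.span (Set.range Q.relation) := by
      rw [← hker, RingHom.mem_ker]
      change φ _ = 0
      rw [map_sub, map_mul, hy, map_one, sub_self]
    exact hm'.ne_top ((Ideal.eq_top_iff_one m').mpr (by
      simpa using m'.sub_mem (m'.mul_mem_left y hd) (hJm h1)))
  · have h := SyntDim.le_ringKrullDim_quotient Q.relation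
    generalize ringKrullDim (MvPolynomial (Fin m) K ⧸ Ideal.span (Set.range Q.relation)) = d at h ⊢
    induction d with
    | bot => simp at h
    | coe d =>
      induction d with
      | top => exact le_top
      | coe d =>
        have h' : m ≤ d + c := by exact_mod_cast h
        have h'' : m - c ≤ d := by omega
        exact WithBot.coe_le_coe.mpr (ENat.natCast_le_natCast.mpr h'')

/-- Every local dimension of a standard smooth algebra of relative dimension `n` over a field is
`n`. -/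
theorem localDim_of_standardSmooth {K A : Type u} [Field K] [CommRing A] [Algebra K A] (n : ℕ)
    [Algebra.IsStandardSmoothOfRelativeDimension n K A] (Q : PrimeSpectrum A) :
    FlatMor.localDim (PrimeSpectrum A) Q = (n : WithBot ℕ∞) := by
  have hnt : Nontrivial A := PrimeSpectrum.nonempty_iff_nontrivial.mp ⟨Q⟩
  refine le_antisymm ((TopDimLib.localDim_le_dim Q).trans ?_) (le_iInf fun U => ?_)
  · rw [PrimeSpectrum.topologicalKrullDim_eq_ringKrullDim, ringKrullDim_of_standardSmooth n (K := K)]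
  · obtain ⟨_, ⟨h, rfl⟩, hQh, hsub⟩ :=
      PrimeSpectrum.isTopologicalBasis_basic_opens.exists_subset_of_mem_open U.2 U.1.isOpen
    refine le_trans ?_ (TopDimLib.dim_subtype_mono hsub)
    rw [← RelDim.dim_away]
    have : Algebra.IsStandardSmoothOfRelativeDimension 0 A (Localization.Away h) :=
      Algebra.IsStandardSmoothOfRelativeDimension.localization_away h
    have : Algebra.IsStandardSmoothOfRelativeDimension (0 + n) K (Localization.Away h) :=
      Algebra.IsStandardSmoothOfRelativeDimension.trans n 0 K A (Localization.Away h)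
    have h0 : Algebra.IsStandardSmoothOfRelativeDimension n K (Localization.Away h) := by
      rwa [zero_add] at this
    have : Nontrivial (Localization.Away h) := by
      rw [← not_subsingleton_iff_nontrivial, IsLocalization.subsingleton_iff (M := Submonoid.powers h)]
      rintro ⟨N, hN⟩
      exact hQh (Q.isPrime.mem_of_pow_mem N (by rw [show h ^ N = 0 from hN]; exact zero_mem _))
    rw [ringKrullDim_of_standardSmooth n (K := K)]

theorem fibreDimAt_of_chart {X Y : Scheme.{u}} (n : ℕ) (f : X ⟶ Y) (x : X) (U : Y.Opens)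
    (hU : IsAffineOpen U) (V : X.Opens) (hV : IsAffineOpen V) (hxV : x ∈ V) (e : V ≤ f ⁻¹ᵁ U)
    (hf : (f.appLE U V e).hom.IsStandardSmoothOfRelativeDimension n) :
    FlatMor.fibreDimAt f x = (n : WithBot ℕ∞) := by
  algebraize [(f.appLE U V e).hom]
  obtain ⟨Q, hQ⟩ := RelDim.exists_fibre_point Γ(Y, U) Γ(X, V) (hV.primeIdealOf ⟨x, hxV⟩)
  have h := fibreDimAt_fromSpec f U hU V hV e _ Q hQ
  rw [hV.fromSpec_primeIdealOf ⟨x, hxV⟩] at h
  rw [show FlatMor.fibreDimAt f x = _ from h]
  exact localDim_of_standardSmooth n (K := ((hV.primeIdealOf ⟨x, hxV⟩).asIdeal.under Γ(Y, U)).ResidueField) Q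

theorem fibreDimAt_of_smoothOfRelativeDimension {X Y : Scheme.{u}} (n : ℕ) (f : X ⟶ Y)
    [SmoothOfRelativeDimension n f] (x : X) : FlatMor.fibreDimAt f x = (n : WithBot ℕ∞) := by
  obtain ⟨U, hU, V, hV, hxV, e, hf⟩ :=
    SmoothOfRelativeDimension.exists_isStandardSmoothOfRelativeDimension (n := n) (f := f) x
  exact fibreDimAt_of_chart n f x U hU V hV hxV e hf

theorem exists_relDim_chart {X Y : Scheme.{u}} (f : X ⟶ Y) [Smooth f] (x : X) :
    ∃ (n : ℕ) (U : Y.Opens) (_ : IsAffineOpen U) (V : X.Opens) (_ : IsAffineOpen V) (_ : x ∈ V)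
      (e : V ≤ f ⁻¹ᵁ U), (f.appLE U V e).hom.IsStandardSmoothOfRelativeDimension n := by
  obtain ⟨U, hU, V, hV, hxV, e, hf⟩ := Smooth.exists_isStandardSmooth f x
  algebraize [(f.appLE U V e).hom]
  obtain ⟨ι, σ, hσ, hι, ⟨P⟩⟩ := ‹Algebra.IsStandardSmooth Γ(Y, U) Γ(X, V)›.out
  exact ⟨P.dimension, U, hU, V, hV, hxV, e, P.isStandardSmoothOfRelativeDimension rfl⟩

theorem fibreDimAt_comp_of_smooth {X Y Z : Scheme.{u}} (f : X ⟶ Y) (g : Y ⟶ Z) [Smooth f] [Smooth g]
    (x : X) :
    FlatMor.fibreDimAt (f ≫ g) x = FlatMor.fibreDimAt f x + FlatMor.fibreDimAt g (f x) := by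
  obtain ⟨m, U₂, hU₂, V₂, hV₂, hfx₂, e₂, hf₂⟩ := exists_relDim_chart g (f x)
  obtain ⟨n, U₁', hU₁', V₁', hV₁', hx₁', e₁', hf₁'⟩ := exists_relDim_chart f x
  rw [fibreDimAt_of_chart n f x U₁' hU₁' V₁' hV₁' hx₁' e₁' hf₁',
    fibreDimAt_of_chart m g (f x) U₂ hU₂ V₂ hV₂ hfx₂ e₂ hf₂]
  obtain ⟨r, s, hx₁, e₁, hf₁⟩ := exists_basicOpen_le_appLE_of_appLE_of_isAffine
    (RingHom.isStandardSmoothOfRelativeDimension_stableUnderCompositionWithLocalizationAway n).right
    (RingHom.isStandardSmoothOfRelativeDimension_localizationPreserves n).away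
    x ⟨V₂, hV₂⟩ ⟨U₁', hU₁'⟩ ⟨V₁', hV₁'⟩ ⟨V₁', hV₁'⟩ hx₁' hx₁' e₁' hf₁' hfx₂
  have e : X.basicOpen s ≤ (f ≫ g) ⁻¹ᵁ U₂ :=
    le_trans e₁ <| f.preimage_mono <| le_trans (Y.basicOpen_le r) e₂
  have heq : (f ≫ g).appLE U₂ (X.basicOpen s) e = g.appLE U₂ V₂ e₂ ≫
      CommRingCat.ofHom (algebraMap Γ(Y, V₂) Γ(Y, Y.basicOpen r)) ≫
        f.appLE (Y.basicOpen r) (X.basicOpen s) e₁ := by
    rw [RingHom.algebraMap_toAlgebra, CommRingCat.ofHom_hom,
      g.appLE_map_assoc, Scheme.Hom.appLE_comp_appLE]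
  have hcomp : ((f ≫ g).appLE U₂ (X.basicOpen s) e).hom.IsStandardSmoothOfRelativeDimension (n + m) := by
    refine heq ▸ ?_
    apply RingHom.IsStandardSmoothOfRelativeDimension.comp ?_ hf₂
    have : IsLocalization.Away r Γ(Y, Y.basicOpen r) := hV₂.isLocalization_basicOpen r
    exact (RingHom.isStandardSmoothOfRelativeDimension_stableUnderCompositionWithLocalizationAway n).left
      _ r _ hf₁
  rw [fibreDimAt_of_chart (n + m) (f ≫ g) x U₂ hU₂ _ (hV₁'.basicOpen s) hx₁ e hcomp]
  push_cast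
  rfl

end Groth.Agent.FibreDimChart
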