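import Groth.Agent.FibreDimChart.Bound
import Groth.Agent.DimTheory.IrrFibres
import Groth.Agent.FieldExtLD.Scheme

/-!
# Monotonicity of fibre dimension under specialization
-/

set_option autoImplicit false
universe u

open AlgebraicGeometry CategoryTheory TopologicalSpace Topology

namespace Groth.Agent.FibreDimChart

variable {X Y : Scheme.{u}} (f : X ⟶ Y)

theorem zero_le_fibreDimAt (x : X) : (0 : WithBot ℕ∞) ≤ FlatMor.fibreDimAt f x := by
  obtain ⟨W, hW, hW'⟩ := TopDimLib.exists_localDim_eq (f.asFiber x)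
  rw [FlatMor.fibreDimAt, ← hW']
  have : Nonempty (W : Set ↥(f.fiber (f x))) := ⟨⟨_, hW⟩⟩
  have : Nonempty (IrreducibleCloseds (W : Set ↥(f.fiber (f x)))) :=
    ⟨⟨closure {⟨_, hW⟩}, isIrreducible_singleton.closure, isClosed_closure⟩⟩
  exact Order.krullDim_nonneg

theorem exists_nat_fibreDimAt_eq [LocallyOfFiniteType f] (x : X) :
    ∃ n : ℕ, FlatMor.fibreDimAt f x = (n : WithBot ℕ∞) := by
  obtain ⟨n, hn⟩ := exists_nat_fibreDimAt_le f x
  have h0 := zero_le_fibreDimAt f x
  generalize FlatMor.fibreDimAt f x = d at hn h0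
  induction d with
  | bot => exact absurd h0 (by simp)
  | coe d =>
    induction d using ENat.recTopCoe with
    | top => exact absurd (WithBot.coe_le_coe.1 hn) (by simp)
    | coe d => exact ⟨d, rfl⟩

/-- The fibre dimension can only go up under specialization. -/
theorem fibreDimAt_le_of_specializes [LocallyOfFiniteType f] {x x' : X} (h : x' ⤳ x) :
    FlatMor.fibreDimAt f x' ≤ FlatMor.fibreDimAt f x := by
  obtain ⟨m, hm⟩ := exists_nat_fibreDimAt_eq f x
  exact hm ▸ (h.mem_open (isOpen_fibreDimAt_le f m) hm.le)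

theorem localDim_fiber_eq_fibreDimAt (y : Y) (z : f.fiber y) :
    FlatMor.localDim ↥(f.fiber y) z = FlatMor.fibreDimAt f (f.fiberι y z) := by
  have hy : f (f.fiberι y z) = y := (f.fiberHomeo y z).2
  rw [← FieldExtLD.localDim_of_isOpenEmbedding (f.fiberHomeo y).isOpenEmbedding z,
    fibreDimAt_eq_localDim_preimage]
  generalize hw : f.fiberι y z = x at hy
  subst hy
  congr 1
  exact Subtype.ext hw

theorem dim_fiber_lt_of_not_exists {y : Y} (n : ℕ)
    (h : ∀ x : X, f x = y → FlatMor.fibreDimAt f x < (n : WithBot ℕ∞)) :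
    topologicalKrullDim ↥(f.fiber y) < (n : WithBot ℕ∞) := by
  cases n with
  | zero =>
    have : topologicalKrullDim ↥(f.fiber y) ≤ ⊥ :=
      (dim_fiber_le_iff f y ⊥).mpr fun x hx => le_bot_iff.mpr
        (WithBot.lt_zero_iff_eq_bot _ |>.mp (h x hx))
    rw [le_bot_iff.mp this]; simp
  | succ m =>
    rw [Nat.cast_add, Nat.cast_one, ENat.WithBot.lt_add_one_iff, dim_fiber_le_iff]
    exact fun x hx => ENat.WithBot.lt_add_one_iff.mp (by exact_mod_cast h x hx)

theorem exists_fibreDimAt_ge {y : Y} (n : ℕ)
    (h : (n : WithBot ℕ∞) ≤ topologicalKrullDim ↥(f.fiber y)) :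
    ∃ x : X, f x = y ∧ (n : WithBot ℕ∞) ≤ FlatMor.fibreDimAt f x := by
  by_contra hne
  push Not at hne
  exact (dim_fiber_lt_of_not_exists f n hne).not_ge h

/-- For irreducible `X` dominating `Y` every fibre has local dimension at least the generic one. -/
theorem dim_genericFiber_le [IrreducibleSpace X] [IrreducibleSpace Y] [LocallyOfFiniteType f]
    [IsDominant f] (x : X) :
    topologicalKrullDim ↥(f.fiber (genericPoint Y)) ≤ FlatMor.fibreDimAt f x := by
  set η := genericPoint Y with hη
  have hξ : f (genericPoint X) = η := by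
    refine (Specializes.antisymm ?_ (genericPoint_specializes _)).eq
    rw [specializes_iff_mem_closure]
    have h1 : closure (f '' closure {genericPoint X}) = closure (f '' {genericPoint X}) :=
      closure_image_closure f.continuous
    rw [Set.image_singleton, genericPoint_closure, Set.image_univ, f.denseRange.closure_range] at h1
    exact h1.subset (Set.mem_univ _)
  obtain ⟨z₀, hz₀⟩ : ∃ z₀ : f.fiber η, f.fiberι η z₀ = genericPoint X :=
    ⟨(f.fiberHomeo η).symm ⟨genericPoint X, hξ⟩, f.fiberι_fiberHomeo_symm η _⟩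
  have hgen : ∀ z : f.fiber η, z₀ ⤳ z := fun z => by
    rw [← (f.fiberι η).isEmbedding.isInducing.specializes_iff, hz₀]
    exact genericPoint_specializes _
  rw [DimTheory.dim_eq_height_of_forall_specializes hgen]
  have : LocallyOfFiniteType (f.fiberToSpecResidueField η) :=
    MorphismProperty.pullback_snd _ _ inferInstance
  refine le_trans ?_ (fibreDimAt_le_of_specializes f (genericPoint_specializes x))
  rw [← hz₀, ← localDim_fiber_eq_fibreDimAt,
    @FieldExtLD.localDim_eq ↑(Y.residueField η) _ (f.fiber η) (f.fiberToSpecResidueField η) this z₀]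
  exact WithBot.coe_le_coe.mpr le_self_add

end Groth.Agent.FibreDimChart
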