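import Groth.Agent.FibreDimChart.Mono
import Groth.Prelude.Def_Cyc

/-!
# Fibre dimension under base change; relative dimension
-/

set_option autoImplicit false
universe u

open AlgebraicGeometry CategoryTheory CategoryTheory.Limits TopologicalSpace Topology

namespace Groth.Agent.FibreDimChart

variable {X Y : Scheme.{u}}

theorem fibreDimAt_of_isPullback {X' Y' : Scheme.{u}} (f : X ⟶ Y) [LocallyOfFiniteType f]
    (g : Y' ⟶ Y) (g' : X' ⟶ X) (f' : X' ⟶ Y') (hsq : IsPullback g' f' f g) (x' : X') :
    FlatMor.fibreDimAt f' x' = FlatMor.fibreDimAt f (g' x') := by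
  let s' := f' x'
  let s := g s'
  let r : Y.residueField s ⟶ Y'.residueField s' := g.residueFieldMap s'
  have hr : Spec.map r ≫ Y.fromSpecResidueField s = Y'.fromSpecResidueField s' ≫ g := by simp [r, s]
  letI : Algebra (Y.residueField s) (Y'.residueField s') := r.hom.toAlgebra
  let ρ : Spec (Y'.residueField s') ⟶ Spec (Y.residueField s) :=
    Spec.map (CommRingCat.ofHom (algebraMap (Y.residueField s) (Y'.residueField s')))
  have hρ : ρ ≫ Y.fromSpecResidueField s = Y'.fromSpecResidueField s' ≫ g := hr
  let m : f'.fiber s' ⟶ f.fiber s :=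
    pullback.lift (f'.fiberι s' ≫ g') (f'.fiberToSpecResidueField s' ≫ ρ)
      (by rw [Category.assoc, hsq.w, ← Category.assoc, f'.fiber_fac s', Category.assoc, Category.assoc, hρ])
  have hm : IsPullback m (f'.fiberToSpecResidueField s') (f.fiberToSpecResidueField s) ρ := by
    refine IsPullback.of_right (h₁₂ := pullback.fst f (Y.fromSpecResidueField s)) ?_
      (pullback.lift_snd ..) (IsPullback.of_hasPullback f (Y.fromSpecResidueField s))
    rw [pullback.lift_fst, hρ]
    exact (IsPullback.of_hasPullback f' (Y'.fromSpecResidueField s')).paste_horiz hsq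
  have : LocallyOfFiniteType (f.fiberToSpecResidueField s) :=
    MorphismProperty.pullback_snd _ _ inferInstance
  have h1 : ∀ z : f'.fiber s', FlatMor.localDim ↥(f'.fiber s') z = FlatMor.localDim ↥(f.fiber s) (m z) := by
    intro z
    have h := FieldExtLD.localDim_pullback (k := ↑(Y.residueField s)) (K := ↑(Y'.residueField s'))
      (X := f.fiber s) (f.fiberToSpecResidueField s) (hm.isoPullback.hom z)
    refine ((FieldExtLD.localDim_of_isOpenEmbedding hm.isoPullback.hom.isOpenEmbedding z).symm.trans h).trans ?_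
    congr 1
    exact congr($(hm.isoPullback_hom_fst) z)
  show FlatMor.localDim ↥(f'.fiber s') (f'.asFiber x') = _
  rw [h1, localDim_fiber_eq_fibreDimAt]
  congr 1
  have e : m ≫ f.fiberι s = f'.fiberι s' ≫ g' := pullback.lift_fst ..
  rw [← Scheme.Hom.comp_apply, e, Scheme.Hom.comp_apply, f'.fiberι_asFiber]

/-- All fibre components have dimension `d` iff the local fibre dimension is `d` everywhere. -/
theorem hasRelDim_iff (f : X ⟶ Y) [LocallyOfFiniteType f] (d : ℕ) :
    Cyc.HasRelDim f d ↔ ∀ x : X, FlatMor.fibreDimAt f x = (d : WithBot ℕ∞) := by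
  have hdim : ∀ (y : Y) (ζ : f.fiber y), (∀ z, z ⤳ ζ → z = ζ) →
      closure {ζ} ∈ irreducibleComponents ↥(f.fiber y) ∧
      topologicalKrullDim ↥(closure ({ζ} : Set ↥(f.fiber y))) = FlatMor.fibreDimAt f (f.fiberι y ζ) := by
    intro y ζ hmax
    refine ⟨⟨isIrreducible_singleton.closure, fun T hT hle => ?_⟩, ?_⟩
    · obtain ⟨w, hw⟩ := QuasiSober.sober hT.closure isClosed_closure
      have hwζ : w ⤳ ζ := hw.specializes (subset_closure (hle (subset_closure rfl)))
      rw [← hmax w hwζ]
      exact subset_closure.trans hw.def.ge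
    · have : LocallyOfFiniteType (f.fiberToSpecResidueField y) :=
        MorphismProperty.pullback_snd _ _ inferInstance
      rw [DimTheory.topologicalKrullDim_closure, ← localDim_fiber_eq_fibreDimAt,
        @FieldExtLD.localDim_eq ↑(Y.residueField y) _ (f.fiber y) (f.fiberToSpecResidueField y) this ζ,
        Order.coheight_eq_zero.mpr fun z hz => (hmax z hz).le, add_zero]
  constructor
  · intro h x
    have hlft : LocallyOfFiniteType (f.fiberToSpecResidueField (f x)) :=
      MorphismProperty.pullback_snd _ _ inferInstance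
    obtain ⟨ζ, -, hmax, he⟩ := @DimTheory.exists_height_eq_add_coheight ↑(Y.residueField (f x)) _
      (f.fiber (f x)) (f.fiberToSpecResidueField (f x)) hlft (f.asFiber x)
    have hmax' : ∀ z, z ⤳ ζ → z = ζ := fun z hz =>
      (Specializes.antisymm hz (hmax z hz)).eq
    obtain ⟨hc, -⟩ := hdim _ ζ hmax'
    have := h (f x) _ hc
    rw [DimTheory.topologicalKrullDim_closure] at this
    show FlatMor.localDim _ _ = _
    rw [@FieldExtLD.localDim_eq ↑(Y.residueField (f x)) _ (f.fiber (f x))
      (f.fiberToSpecResidueField (f x)) hlft, ← he]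
    exact this
  · intro h y T hT
    have hmax : ∀ z, z ⤳ hT.1.genericPoint → z = hT.1.genericPoint :=
      DimTheory.mem_component_isMax hT
    rw [← DimTheory.component_eq_closure hT, (hdim y _ hmax).2, h]

theorem hasRelDim_of_isPullback_of_surjective {X' Y' : Scheme.{u}} (f : X ⟶ Y) [LocallyOfFiniteType f]
    (g : Y' ⟶ Y) [Surjective g] (g' : X' ⟶ X) (f' : X' ⟶ Y') (hsq : IsPullback g' f' f g) (d : ℕ)
    (h : Cyc.HasRelDim f' d) : Cyc.HasRelDim f d := by
  have : LocallyOfFiniteType f' := MorphismProperty.of_isPullback hsq inferInstance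
  have : Surjective g' := MorphismProperty.of_isPullback hsq.flip inferInstance
  rw [hasRelDim_iff] at h ⊢
  intro x
  obtain ⟨x', rfl⟩ := g'.surjective x
  rw [← fibreDimAt_of_isPullback f g g' f' hsq x']
  exact h x'

end Groth.Agent.FibreDimChart
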