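import Groth.Agent.FibreDimChart.Mono

/-!
# Constructibility of the loci of constant fibre dimension
-/

set_option autoImplicit false
universe u

open AlgebraicGeometry CategoryTheory TopologicalSpace Topology
open scoped Set.Notation

namespace Groth.Agent.FibreDimChart

variable {X Y : Scheme.{u}} (f : X ⟶ Y)

theorem isLocallyConstructible_compl {Z : Type*} [TopologicalSpace Z] {s : Set Z}
    (hs : IsLocallyConstructible s) : IsLocallyConstructible sᶜ := fun x => by
  obtain ⟨U, hxU, hU, hsU⟩ := hs x
  exact ⟨U, hxU, hU, by rw [Set.preimage_compl]; exact hsU.compl⟩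

theorem isLocallyConstructible_fibreDimAt_le [LocallyOfFinitePresentation f] (n : ℕ) :
    IsLocallyConstructible {x : X | FlatMor.fibreDimAt f x ≤ (n : WithBot ℕ∞)} := by
  intro x
  obtain ⟨U, hU, V, hV, hVU, hxV⟩ := Unram.exists_chart f x
  have := f.finitePresentation_appLE hU hV hVU
  algebraize [(f.appLE U V hVU).hom]
  refine ⟨(V : Set X), V.2.mem_nhds hxV, V.2, ?_⟩
  let e : Spec Γ(X, V) ≅ (V : Scheme.{u}) := hV.isoSpec.symm
  have hDc : IsConstructible (RelDim.dimLocus Γ(Y, U) Γ(X, V) n) :=
    (RelDim.isCompact_dimLocus _ _ n).isConstructible (RelDim.isOpen_dimLocus _ _ n)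
  let h : ↥V ≃ₜ PrimeSpectrum Γ(X, V) := Scheme.homeoOfIso hV.isoSpec
  have hset : (V : Set X) ↓∩ {x : X | FlatMor.fibreDimAt f x ≤ (n : WithBot ℕ∞)} =
      h ⁻¹' RelDim.dimLocus Γ(Y, U) Γ(X, V) n := by
    ext z
    show FlatMor.fibreDimAt f z.1 ≤ _ ↔ _
    have hz : hV.fromSpec (hV.primeIdealOf z) = z.1 := hV.fromSpec_primeIdealOf z
    constructor
    · intro hle Q hQ
      rw [← fibreDimAt_fromSpec f U hU V hV hVU _ Q hQ]
      show FlatMor.fibreDimAt f (hV.fromSpec (hV.primeIdealOf z)) ≤ _
      rw [hz]
      exact hle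
    · intro hD
      obtain ⟨Q, hQ⟩ := RelDim.exists_fibre_point Γ(Y, U) Γ(X, V) (hV.primeIdealOf z)
      rw [← hz, fibreDimAt_fromSpec f U hU V hV hVU _ Q hQ]
      exact hD Q hQ
  exact hset ▸ hDc.preimage_of_isOpenEmbedding h.isOpenEmbedding

theorem isLocallyConstructible_dim_fiber_le [LocallyOfFinitePresentation f] [QuasiCompact f]
    (c : WithBot ℕ∞) : IsLocallyConstructible {y : Y | topologicalKrullDim ↥(f.fiber y) ≤ c} := by
  have key : ∀ (P : WithBot ℕ∞), IsLocallyConstructible {x : X | FlatMor.fibreDimAt f x ≤ P} →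
      IsLocallyConstructible {y : Y | topologicalKrullDim ↥(f.fiber y) ≤ P} := by
    intro P hP
    have : {y : Y | topologicalKrullDim ↥(f.fiber y) ≤ P} =
        (f '' {x : X | FlatMor.fibreDimAt f x ≤ P}ᶜ)ᶜ := by
      ext y
      simp only [Set.mem_setOf_eq, Set.mem_compl_iff, Set.mem_image, dim_fiber_le_iff]
      exact ⟨fun h ⟨x, hx, hxy⟩ => hx (h x hxy), fun h x hxy => by
        by_contra hx; exact h ⟨x, hx, hxy⟩⟩
    rw [this]
    exact isLocallyConstructible_compl (f.isLocallyConstructible_image (isLocallyConstructible_compl hP))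
  induction c with
  | bot =>
    refine key ⊥ ?_
    convert IsLocallyConstructible.empty (X := X)
    exact Set.eq_empty_iff_forall_notMem.mpr fun x hx =>
      absurd ((zero_le_fibreDimAt f x).trans hx) (by simp)
  | coe c =>
    induction c using ENat.recTopCoe with
    | top =>
      refine key _ ?_
      convert IsLocallyConstructible.univ (X := X)
      exact Set.eq_univ_of_forall fun x => show FlatMor.fibreDimAt f x ≤ _ by
        rw [WithBot.coe_top]; exact le_top
    | coe n => exact key _ (isLocallyConstructible_fibreDimAt_le f n)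

theorem exists_nat_dim_fiber_le [LocallyOfFiniteType f] [QuasiCompact f] (y : Y) :
    ∃ n : ℕ, topologicalKrullDim ↥(f.fiber y) ≤ (n : WithBot ℕ∞) := by
  obtain ⟨n, hn⟩ := (f.isCompact_preimage_singleton y).elim_directed_cover
    (fun n : ℕ => {x : X | FlatMor.fibreDimAt f x ≤ (n : WithBot ℕ∞)})
    (fun n => isOpen_fibreDimAt_le f n)
    (fun x _ => Set.mem_iUnion.mpr (exists_nat_fibreDimAt_le f x))
    (Monotone.directed_le fun a b hab x hx =>
      le_trans (α := WithBot ℕ∞) hx (by exact_mod_cast hab : (a : WithBot ℕ∞) ≤ (b : WithBot ℕ∞)))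
  exact ⟨n, (dim_fiber_le_iff f y _).mpr fun x hx => hn hx⟩

theorem isLocallyConstructible_dim_fiber_eq [LocallyOfFinitePresentation f] [QuasiCompact f]
    (c : WithBot ℕ∞) : IsLocallyConstructible {y : Y | topologicalKrullDim ↥(f.fiber y) = c} := by
  induction c with
  | bot => simpa only [le_bot_iff] using isLocallyConstructible_dim_fiber_le f ⊥
  | coe c =>
    induction c using ENat.recTopCoe with
    | top =>
      convert IsLocallyConstructible.empty (X := Y)
      refine Set.eq_empty_iff_forall_notMem.mpr fun y hy => ?_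
      obtain ⟨n, hn⟩ := exists_nat_dim_fiber_le f y
      rw [Set.mem_setOf_eq] at hy
      rw [hy] at hn
      exact absurd (WithBot.coe_le_coe.1 hn) (by simp)
    | coe n =>
      cases n with
      | zero =>
        convert (isLocallyConstructible_dim_fiber_le f (0 : ℕ)).inter
          (isLocallyConstructible_compl (isLocallyConstructible_dim_fiber_le f ⊥)) using 1
        ext y
        simp only [Set.mem_setOf_eq, Set.mem_inter_iff, Set.mem_compl_iff, le_bot_iff]
        exact ⟨fun h => ⟨h.le, fun e => absurd (h.symm.trans e) WithBot.coe_ne_bot⟩,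
          fun ⟨h1, h2⟩ => le_antisymm h1 (by
            rw [ENat.WithBot.coe_eq_natCast, Nat.cast_zero]
            exact le_of_not_gt fun h => h2 ((WithBot.lt_zero_iff_eq_bot _).mp h))⟩
      | succ m =>
        convert (isLocallyConstructible_dim_fiber_le f ((m + 1 : ℕ) : WithBot ℕ∞)).inter
          (isLocallyConstructible_compl (isLocallyConstructible_dim_fiber_le f (m : WithBot ℕ∞))) using 1
        ext y
        simp only [Set.mem_setOf_eq, Set.mem_inter_iff, Set.mem_compl_iff]
        rw [ENat.WithBot.coe_eq_natCast]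
        constructor
        · intro h
          refine ⟨h.le, fun h' => ?_⟩
          rw [h] at h'
          have h'' : m + 1 ≤ m := by exact_mod_cast h'
          omega
        · rintro ⟨h1, h2⟩
          refine le_antisymm h1 ?_
          push_cast
          exact ENat.WithBot.add_one_le_iff.mpr (not_le.mp h2)

end Groth.Agent.FibreDimChart
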