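import Groth.Agent.DimTheory.Algebra
import Groth.Agent.FieldExtDim.Basic
import Groth.Agent.FlatMorLib.ClosedGen
import Mathlib.RingTheory.MvPolynomial.Localization

/-!
# Fibre dimensions of flat algebras over valuation rings
-/

set_option autoImplicit false
universe u

open TensorProduct

namespace Groth.Agent.FibreDimChart

/-- A finite type algebra containing a polynomial ring in `n` variables has dimension at least `n`. -/
theorem le_ringKrullDim_of_injective {K A : Type u} [Field K] [CommRing A] [Algebra K A]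
    [Algebra.FiniteType K A] {n : ℕ} (φ : MvPolynomial (Fin n) K →ₐ[K] A) (hφ : Function.Injective φ) :
    (n : WithBot ℕ∞) ≤ ringKrullDim A := by
  have : IsNoetherianRing A := Algebra.FiniteType.isNoetherianRing K A
  obtain ⟨q, hq, hq0⟩ : ∃ q ∈ minimalPrimes A, ∀ x, φ x ∈ q → x = 0 := by
    by_contra h
    push Not at h
    have hfin := minimalPrimes.finite_of_isNoetherianRing A
    choose x hx hx0 using h
    let y := ∏ q ∈ hfin.toFinset.attach, x q.1 (hfin.mem_toFinset.mp q.2)
    have hy : y ≠ 0 := Finset.prod_ne_zero_iff.mpr fun q _ => hx0 _ _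
    have hnil : φ y ∈ nilradical A := by
      rw [nilradical, Ideal.radical_eq_sInf, Submodule.mem_sInf]
      rintro J ⟨-, hJ⟩
      obtain ⟨q, hq, hqJ⟩ := Ideal.exists_minimalPrimes_le (I := (⊥ : Ideal A)) (J := J) bot_le
      refine hqJ ?_
      rw [map_prod]
      exact q.prod_mem (f := fun q : {q // q ∈ hfin.toFinset} => φ (x q.1 (hfin.mem_toFinset.mp q.2)))
        (Finset.mem_attach _ ⟨q, hfin.mem_toFinset.mpr hq⟩) (hx q hq)
    obtain ⟨N, hN⟩ := mem_nilradical.mp hnil
    rw [← map_pow] at hN
    exact pow_ne_zero N hy (hφ (hN.trans (map_zero φ).symm))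
  have : q.IsPrime := hq.1.1
  let ψ : MvPolynomial (Fin n) K →ₐ[K] A ⧸ q := (Ideal.Quotient.mkₐ K q).comp φ
  have hψ : Function.Injective ψ := (injective_iff_map_eq_zero ψ).mpr fun x hx =>
    hq0 x (Ideal.Quotient.eq_zero_iff_mem.mp hx)
  obtain ⟨m, hm, hm'⟩ := DimTheory.exists_trdeg_eq K (A ⧸ q)
  have h := trdeg_le_of_injective ψ hψ
  rw [MvPolynomial.trdeg_of_isDomain, hm', Cardinal.mk_fin, Cardinal.lift_natCast, Nat.cast_le] at h
  calc (n : WithBot ℕ∞) ≤ (m : WithBot ℕ∞) := by exact_mod_cast h
    _ = ringKrullDim (A ⧸ q) := hm.symm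
    _ ≤ ringKrullDim A := ringKrullDim_quotient_le q

attribute [local instance] MvPolynomial.algebraMvPolynomial

variable {R : Type u} [CommRing R] [IsDomain R] [ValuationRing R]
  {K : Type u} [Field K] [Algebra R K] [IsFractionRing R K]
  {B : Type u} [CommRing B] [Algebra R B] [Module.Flat R B] [Algebra.FiniteType R B]

/-- For a flat finite type algebra over a valuation ring the special fibre is at most as large as
the generic one. -/
theorem dim_special_le_dim_generic :
    ringKrullDim (IsLocalRing.ResidueField R ⊗[R] B) ≤ ringKrullDim (K ⊗[R] B) := by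
  let k := IsLocalRing.ResidueField R
  rcases subsingleton_or_nontrivial (k ⊗[R] B) with h | h
  · rw [ringKrullDim_eq_bot_of_subsingleton]; exact bot_le
  obtain ⟨n, g, hg, -, hn⟩ := DimTheory.exists_normalization k (k ⊗[R] B)
  rw [hn]
  have hsurj : Function.Surjective (Algebra.TensorProduct.includeRight : B →ₐ[R] k ⊗[R] B) :=
    Algebra.TensorProduct.includeRight_surjective (S := k) B IsLocalRing.residue_surjective
  choose t ht using fun i => hsurj (g (MvPolynomial.X i))
  let φ : MvPolynomial (Fin n) R →ₐ[R] B := MvPolynomial.aeval t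
  let ψ : MvPolynomial (Fin n) K →ₐ[K] K ⊗[R] B := MvPolynomial.aeval fun i => (1 : K) ⊗ₜ t i
  refine le_ringKrullDim_of_injective ψ ?_
  have hψ : ∀ P : MvPolynomial (Fin n) R,
      ψ (MvPolynomial.map (algebraMap R K) P) = (1 : K) ⊗ₜ[R] φ P := fun P => by
    rw [MvPolynomial.aeval_map_algebraMap]
    exact (MvPolynomial.comp_aeval_apply t (Algebra.TensorProduct.includeRight : B →ₐ[R] K ⊗[R] B) P).symm
  have hg' : ∀ P : MvPolynomial (Fin n) R,
      g (MvPolynomial.map (algebraMap R k) P) = (1 : k) ⊗ₜ[R] φ P := fun P => by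
    have : g = MvPolynomial.aeval fun i => (1 : k) ⊗ₜ[R] t i :=
      MvPolynomial.algHom_ext fun i => by
        rw [MvPolynomial.aeval_X]; exact (ht i).symm
    rw [this, MvPolynomial.aeval_map_algebraMap]
    exact (MvPolynomial.comp_aeval_apply t (Algebra.TensorProduct.includeRight : B →ₐ[R] k ⊗[R] B) P).symm
  have hinj : Function.Injective (fun b : B => (1 : K) ⊗ₜ[R] b) :=
    Algebra.TensorProduct.includeRight_injective (A := K) (B := B) (IsFractionRing.injective R K)
  -- the polynomial map over `R` is injective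
  have hφ : ∀ P : MvPolynomial (Fin n) R, (1 : K) ⊗ₜ[R] φ P = 0 → P = 0 := by
    intro P hP
    by_contra hP0
    obtain ⟨d, hd, hdvd⟩ := FlatMorLib.ClosedGen.exists_dvd_all (fun e => P.coeff e) P.support
      (MvPolynomial.support_nonempty.mpr hP0)
    have hc : P.coeff d ≠ 0 := MvPolynomial.mem_support_iff.mp hd
    obtain ⟨P', hP'⟩ : MvPolynomial.C (P.coeff d) ∣ P := by
      rw [MvPolynomial.C_dvd_iff_dvd_coeff]
      intro e
      by_cases he : e ∈ P.support
      · exact hdvd e he
      · simp [MvPolynomial.notMem_support_iff.mp he]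
    have h1 : P'.coeff d = 1 := by
      have := congr(MvPolynomial.coeff d $hP')
      rw [MvPolynomial.coeff_C_mul] at this
      exact mul_left_cancel₀ hc (by rw [← this, mul_one])
    rw [← hψ, hP', map_mul, map_mul, MvPolynomial.map_C, MvPolynomial.aeval_C, ← Algebra.smul_def,
      hψ] at hP
    have h0 : φ P' = 0 := by
      refine hinj ?_
      show (1 : K) ⊗ₜ[R] φ P' = (1 : K) ⊗ₜ[R] 0
      rw [tmul_zero]
      have hu : algebraMap R K (P.coeff d) ≠ 0 := fun e =>
        hc (IsFractionRing.injective R K (e.trans (map_zero _).symm))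
      exact (smul_eq_zero_iff_right hu).mp hP
    have h2 := hg' P'
    rw [h0, tmul_zero, ← map_zero g] at h2
    have := congr(MvPolynomial.coeff d $(hg h2))
    rw [MvPolynomial.coeff_map, h1, map_one, MvPolynomial.coeff_zero] at this
    exact one_ne_zero this
  rw [injective_iff_map_eq_zero]
  intro Q hQ
  obtain ⟨⟨P, c, hc⟩, hcP⟩ := IsLocalization.surj
    ((nonZeroDivisors R).map (MvPolynomial.C : R →+* MvPolynomial (Fin n) R)) Q
  obtain ⟨r, hr, rfl⟩ := hc
  have hP : P = 0 := hφ P (by
    rw [← hψ, show MvPolynomial.map (algebraMap R K) P = algebraMap _ _ P from rfl, ← hcP, map_mul,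
      hQ, zero_mul])
  subst hP
  rw [map_zero] at hcP
  refine (mul_eq_zero.mp hcP).resolve_right ?_
  show MvPolynomial.map (algebraMap R K) (MvPolynomial.C r) ≠ 0
  rw [MvPolynomial.map_C, Ne, MvPolynomial.C_eq_zero]
  exact fun e => nonZeroDivisors.ne_zero hr (IsFractionRing.injective R K (e.trans (map_zero _).symm))

end Groth.Agent.FibreDimChart
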