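import Groth.Agent.FibreDimChart.Constr
import Groth.Agent.FibreDimChart.Valuation

/-!
# Lower semicontinuity of the fibre dimension of flat morphisms
-/

set_option autoImplicit false
universe u

open AlgebraicGeometry CategoryTheory TopologicalSpace Topology TensorProduct

namespace Groth.Agent.FibreDimChart

theorem dim_fiber_le_of_le {A B : Type u} [CommRing A] [CommRing B] [Algebra A B] [Module.Flat A B]
    [Algebra.FiniteType A B] (p p' : Ideal A) [p.IsPrime] [p'.IsPrime] (h : p' ≤ p) :
    ringKrullDim (p.Fiber B) ≤ ringKrullDim (p'.Fiber B) := by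
  let K := p'.ResidueField
  let l : Localization.AtPrime p →+* K := IsLocalization.lift (M := p.primeCompl) (g := algebraMap A K)
    fun y => Ne.isUnit fun h0 => y.2 (h (Ideal.algebraMap_residueField_eq_zero.mp h0))
  obtain ⟨V, hV, hloc⟩ := IsLocalRing.exists_factor_valuationRing l
  let l' : Localization.AtPrime p →+* V := l.codRestrict V.toSubring hV
  letI : Algebra A V := (l'.comp (algebraMap A (Localization.AtPrime p))).toAlgebra
  haveI : IsScalarTower A V K := IsScalarTower.of_algebraMap_eq fun a => by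
    rw [RingHom.algebraMap_toAlgebra]
    exact (IsLocalization.lift_eq (M := p.primeCompl) _ a).symm
  haveI : IsLocalHom l' := hloc
  let k := IsLocalRing.ResidueField V
  let μ : p.ResidueField →+* k := IsLocalRing.ResidueField.map l'
  letI : Algebra p.ResidueField k := μ.toAlgebra
  haveI : IsScalarTower A p.ResidueField k := IsScalarTower.of_algebraMap_eq fun a => rfl
  have e1 : ringKrullDim (k ⊗[V] (V ⊗[A] B)) = ringKrullDim (p.Fiber B) :=
    (ringKrullDim_eq_of_ringEquiv ((Algebra.TensorProduct.cancelBaseChange A V k k B).toRingEquiv.trans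
      (Algebra.TensorProduct.cancelBaseChange A p.ResidueField k k B).symm.toRingEquiv)).trans
        (FieldExtDim.ringKrullDim_tensor_field (p.Fiber B))
  have e2 : ringKrullDim (K ⊗[V] (V ⊗[A] B)) = ringKrullDim (p'.Fiber B) :=
    ringKrullDim_eq_of_ringEquiv (Algebra.TensorProduct.cancelBaseChange A V K K B).toRingEquiv
  rw [← e1, ← e2]
  exact dim_special_le_dim_generic

/-- Along a flat morphism the fibre dimension can only go up under generization of the base. -/
theorem dim_fiber_le_of_specializes {X S : Scheme.{u}} (f : X ⟶ S) [Flat f] [LocallyOfFiniteType f]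
    {s' s : S} (hs : s' ⤳ s) :
    topologicalKrullDim ↥(f.fiber s) ≤ topologicalKrullDim ↥(f.fiber s') := by
  refine (dim_fiber_le_iff f s _).mpr ?_
  rintro x rfl
  obtain ⟨U, hU, V, hV, hVU, hxV⟩ := Unram.exists_chart f x
  have := f.finiteType_appLE hU hV hVU
  have := Flat.flat_appLE f hU hV hVU
  algebraize [(f.appLE U V hVU).hom]
  let q := hV.primeIdealOf ⟨x, hxV⟩
  let p := q.asIdeal.under Γ(S, U)
  obtain ⟨p', hp'⟩ : s' ∈ Set.range hU.fromSpec := by
    rw [hU.range_fromSpec]; exact hs.mem_open U.2 (hVU hxV)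
  have hp : hU.fromSpec (⟨p, inferInstance⟩ : PrimeSpectrum Γ(S, U)) = f x := by
    have h : Spec.map (f.appLE U V hVU) ≫ hU.fromSpec = hV.fromSpec ≫ f :=
      IsAffineOpen.SpecMap_appLE_fromSpec f hU hV hVU
    refine (congr($h q)).trans ?_
    rw [Scheme.Hom.comp_apply, hV.fromSpec_primeIdealOf]
  have hle : p'.asIdeal ≤ p := by
    refine (PrimeSpectrum.le_iff_specializes p' ⟨p, inferInstance⟩).mpr ?_
    rw [← hp', ← hp] at hs
    exact hU.fromSpec.isOpenEmbedding.isInducing.specializes_iff.mp hs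
  obtain ⟨Q, hQ⟩ := RelDim.exists_fibre_point Γ(S, U) Γ(X, V) q
  have e := fibreDimAt_fromSpec f U hU V hV hVU q Q hQ
  rw [hV.fromSpec_primeIdealOf ⟨x, hxV⟩] at e
  rw [show FlatMor.fibreDimAt f x = _ from e]
  refine (TopDimLib.localDim_le_dim Q).trans ?_
  rw [PrimeSpectrum.topologicalKrullDim_eq_ringKrullDim]
  refine (dim_fiber_le_of_le (B := Γ(X, V)) p p'.asIdeal hle).trans ?_
  rw [← PrimeSpectrum.topologicalKrullDim_eq_ringKrullDim]
  let T : Set X := f ⁻¹' {s'}
  let g : PrimeSpectrum Γ(X, V) → X := fun z => hV.fromSpec z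
  have hset : PrimeSpectrum.comap (algebraMap Γ(S, U) Γ(X, V)) ⁻¹' {p'} = g ⁻¹' T := by
    ext z
    have h : Spec.map (f.appLE U V hVU) ≫ hU.fromSpec = hV.fromSpec ≫ f :=
      IsAffineOpen.SpecMap_appLE_fromSpec f hU hV hVU
    have hz : f (g z) = hU.fromSpec (PrimeSpectrum.comap (algebraMap Γ(S, U) Γ(X, V)) z) :=
      (congr($h z)).symm
    show _ = p' ↔ f (g z) = s'
    rw [hz, ← hp']
    exact ⟨fun e => congrArg _ e, fun e => hU.fromSpec.isOpenEmbedding.injective e⟩
  let e' := (PrimeSpectrum.preimageHomeomorphFiber Γ(S, U) Γ(X, V) p').symm.trans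
    (Homeomorph.setCongr hset)
  have hemb : IsEmbedding ((f.fiberHomeo s').symm ∘ T.restrictPreimage g ∘ e') :=
    (f.fiberHomeo s').symm.isEmbedding.comp
      ((hV.fromSpec.isOpenEmbedding.restrictPreimage T).isEmbedding.comp e'.isEmbedding)
  exact hemb.isInducing.topologicalKrullDim_le

theorem isOpen_lt_dim_fiber {X S : Scheme.{u}} (f : X ⟶ S) [Flat f] [LocallyOfFinitePresentation f]
    [QuasiCompact f] (c : WithBot ℕ∞) :
    IsOpen {s : S | c < topologicalKrullDim ↥(f.fiber s)} := by
  have hgen : ∀ {s' s : S}, s' ⤳ s →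
      topologicalKrullDim ↥(f.fiber s) ≤ topologicalKrullDim ↥(f.fiber s') :=
    fun h => dim_fiber_le_of_specializes f h
  refine isOpen_iff_forall_mem_open.mpr fun s hs => ?_
  obtain ⟨_, ⟨U, hU, rfl⟩, hsU, -⟩ :=
    S.isBasis_affineOpens.exists_subset_of_mem_open (Set.mem_univ s) isOpen_univ
  let g : PrimeSpectrum Γ(S, U) → S := fun z => hU.fromSpec z
  have hg : IsOpenEmbedding g := hU.fromSpec.isOpenEmbedding
  let Z : Set (PrimeSpectrum Γ(S, U)) := g ⁻¹' {s | topologicalKrullDim ↥(f.fiber s) ≤ c}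
  have hZ : IsConstructible Z :=
    ((isLocallyConstructible_dim_fiber_le f c).preimage_of_isOpenEmbedding hg).isConstructible
  have hst : StableUnderSpecialization Z := fun a b hab ha =>
    le_trans (hgen (hab.map hg.continuous)) ha
  have hcl : IsClosed Z :=
    (PrimeSpectrum.isClosed_of_stableUnderSpecialization_of_isConstructible hst hZ)
  refine ⟨g '' Zᶜ, ?_, hg.isOpenMap _ hcl.isOpen_compl, ?_⟩
  · rintro _ ⟨z, hz, rfl⟩
    show c < topologicalKrullDim ↥(f.fiber (g z))
    exact not_le.mp (show ¬ topologicalKrullDim ↥(f.fiber (g z)) ≤ c from hz)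
  · obtain ⟨z, rfl⟩ : s ∈ Set.range g := by
      show s ∈ Set.range hU.fromSpec
      rw [hU.range_fromSpec]; exact hsU
    have hs' : c < topologicalKrullDim ↥(f.fiber (g z)) := hs
    exact ⟨z, (not_le.mpr hs' : ¬ topologicalKrullDim ↥(f.fiber (g z)) ≤ c), rfl⟩

end Groth.Agent.FibreDimChart
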