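import Groth.Agent.FibreDimChart.FlatDim
import Groth.Agent.DimTheory.ZeroDim

/-!
# Consequences of semicontinuity of the fibre dimension
-/

set_option autoImplicit false
universe u

open AlgebraicGeometry CategoryTheory TopologicalSpace Topology

namespace Groth.Agent.FibreDimChart

variable {X Y : Scheme.{u}} (f : X ⟶ Y)

theorem isRetrocompact_fibreDimAt_le [LocallyOfFinitePresentation f] (n : ℕ) :
    IsRetrocompact {x : X | FlatMor.fibreDimAt f x ≤ (n : WithBot ℕ∞)} := by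
  intro K hKc hKo
  have key : ∀ x ∈ K, ∃ V : Set X, IsOpen V ∧ x ∈ V ∧ V ⊆ K ∧
      IsCompact ({x : X | FlatMor.fibreDimAt f x ≤ (n : WithBot ℕ∞)} ∩ V) := by
    intro x hx
    obtain ⟨_, ⟨U, hU, rfl⟩, hxU, -⟩ :=
      Y.isBasis_affineOpens.exists_subset_of_mem_open (Set.mem_univ (f x)) isOpen_univ
    obtain ⟨_, ⟨V, hV, rfl⟩, hxV, hVK⟩ := X.isBasis_affineOpens.exists_subset_of_mem_open
      (show x ∈ K ∩ f ⁻¹' (U : Set Y) from ⟨hx, hxU⟩) (hKo.inter (U.2.preimage f.continuous))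
    have hVU : V ≤ f ⁻¹ᵁ U := fun y hy => (hVK hy).2
    have := f.finitePresentation_appLE hU hV hVU
    algebraize [(f.appLE U V hVU).hom]
    refine ⟨V, V.2, hxV, fun y hy => (hVK hy).1, ?_⟩
    have hset : {x : X | FlatMor.fibreDimAt f x ≤ (n : WithBot ℕ∞)} ∩ (V : Set X) =
        hV.fromSpec '' RelDim.dimLocus Γ(Y, U) Γ(X, V) n := by
      ext z
      constructor
      · rintro ⟨hz, hzV⟩
        refine ⟨hV.primeIdealOf ⟨z, hzV⟩, fun Q hQ => ?_, hV.fromSpec_primeIdealOf ⟨z, hzV⟩⟩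
        rw [← fibreDimAt_fromSpec f U hU V hV hVU _ Q hQ, hV.fromSpec_primeIdealOf ⟨z, hzV⟩]
        exact hz
      · rintro ⟨q, hq, rfl⟩
        refine ⟨?_, hV.range_fromSpec.subset ⟨q, rfl⟩⟩
        obtain ⟨Q, hQ⟩ := RelDim.exists_fibre_point Γ(Y, U) Γ(X, V) q
        show FlatMor.fibreDimAt f (hV.fromSpec q) ≤ _
        rw [fibreDimAt_fromSpec f U hU V hV hVU q Q hQ]
        exact hq Q hQ
    rw [hset]
    exact (RelDim.isCompact_dimLocus _ _ n).image hV.fromSpec.continuous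
  choose! V hVo hxV hVK hVc using key
  obtain ⟨t, htK, htc⟩ := hKc.elim_nhds_subcover V fun x hx => (hVo x hx).mem_nhds (hxV x hx)
  have : {x : X | FlatMor.fibreDimAt f x ≤ (n : WithBot ℕ∞)} ∩ K =
      ⋃ x ∈ t, {x : X | FlatMor.fibreDimAt f x ≤ (n : WithBot ℕ∞)} ∩ V x := by
    refine subset_antisymm ?_ (Set.iUnion₂_subset fun x hx => Set.inter_subset_inter_right _ (hVK x (htK x hx)))
    rintro z ⟨hz, hzK⟩
    obtain ⟨x, hx, hzx⟩ := Set.mem_iUnion₂.mp (htc hzK)
    exact Set.mem_iUnion₂.mpr ⟨x, hx, hz, hzx⟩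
  rw [this]
  exact t.finite_toSet.isCompact_biUnion fun x hx => hVc x (htK x hx)

theorem stalk_dim_lt {k : Type u} [Field k] {Z : Scheme.{u}} (q : Z ⟶ Spec (CommRingCat.of k))
    [LocallyOfFiniteType q] {x x' : Z} (h : x ⤳ x') (hne : x ≠ x') :
    ringKrullDim (Z.presheaf.stalk x) < ringKrullDim (Z.presheaf.stalk x') := by
  rw [ringKrullDim_stalk_eq_coheight, ringKrullDim_stalk_eq_coheight, WithBot.coe_lt_coe]
  have hlt : x' < x := lt_of_le_not_ge h fun h' => hne (h.antisymm h').eq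
  exact Order.coheight_strictAnti hlt (DimTheory.coheight_lt_top q _)

theorem dim_preimage_eq (y : Y) :
    topologicalKrullDim ↥(f ⁻¹' {y}) = topologicalKrullDim ↥(f.fiber y) :=
  ((f.fiberHomeo y).isHomeomorph.topologicalKrullDim_eq _).symm

theorem clopen_dim_zero [IsProper f] [Flat f] [LocallyOfFinitePresentation f] :
    IsClopen {y : Y | topologicalKrullDim ↥(f ⁻¹' {y}) = 0} ∧
      ∀ U : Y.Opens, (U : Set Y) ⊆ {y : Y | topologicalKrullDim ↥(f ⁻¹' {y}) = 0} →
        IsFinite (f ∣_ U) := by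
  simp only [dim_preimage_eq]
  have hiff : ∀ y : Y, topologicalKrullDim ↥(f.fiber y) = 0 ↔
      topologicalKrullDim ↥(f.fiber y) ≤ (0 : ℕ) ∧ ⊥ < topologicalKrullDim ↥(f.fiber y) := fun y => by
    rw [Nat.cast_zero]
    exact ⟨fun h => ⟨h.le, h ▸ by simp⟩, fun ⟨h1, h2⟩ => le_antisymm h1
      (le_of_not_gt fun h => h2.ne' ((WithBot.lt_zero_iff_eq_bot _).mp h))⟩
  refine ⟨⟨?_, ?_⟩, fun U hU => ?_⟩
  · refine isOpen_compl_iff.mp ?_
    convert (isOpen_lt_dim_fiber f ((0 : ℕ) : WithBot ℕ∞)).union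
      (isOpen_dim_fiber_le_of_isClosedMap f f.isClosedMap ⊥) using 1
    ext y
    simp only [Set.mem_compl_iff, Set.mem_setOf_eq, Set.mem_union, hiff, not_and_or, not_le, not_lt]
  · convert (isOpen_dim_fiber_le_of_isClosedMap f f.isClosedMap ((0 : ℕ) : WithBot ℕ∞)).inter
      (isOpen_lt_dim_fiber f ⊥) using 1
    ext y
    simp only [Set.mem_setOf_eq, Set.mem_inter_iff, hiff]
  · suffices LocallyQuasiFinite (f ∣_ U) from IsFinite.of_isProper_of_locallyQuasiFinite _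
    refine .of_finite_preimage_singleton _ fun y => ?_
    have hfin : (f ⁻¹' {U.ι y}).Finite := by
      have : LocallyOfFiniteType (f.fiberToSpecResidueField (U.ι y)) :=
        MorphismProperty.pullback_snd _ _ inferInstance
      have : QuasiCompact (f.fiberToSpecResidueField (U.ι y)) :=
        MorphismProperty.pullback_snd _ _ inferInstance
      have := @DimTheory.ZeroDim.finite_of_dim_le_zero ↑(Y.residueField (U.ι y)) _ (f.fiber (U.ι y))
        (f.fiberToSpecResidueField (U.ι y)) inferInstance inferInstance (hU y.2).le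
      exact Set.finite_coe_iff.mp ((f.fiberHomeo (U.ι y)).toEquiv.finite_iff.mp this)
    refine Set.Finite.of_finite_image (f := (f ⁻¹ᵁ U).ι) (hfin.subset ?_)
      (f ⁻¹ᵁ U).ι.isOpenEmbedding.injective.injOn
    rintro _ ⟨x, hx, rfl⟩
    show f ((f ⁻¹ᵁ U).ι x) = U.ι y
    rw [← Scheme.Hom.comp_apply, ← morphismRestrict_ι, Scheme.Hom.comp_apply]
    exact congrArg _ hx

end Groth.Agent.FibreDimChart
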