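import Mathlib
import Groth.Prelude.Def_Flat
import Groth.Agent.RelDim.Open
import Groth.Agent.Unram.Pointwise

/-!
# The local fibre dimension of a morphism of schemes, on affine charts
-/

set_option autoImplicit false
universe u

open AlgebraicGeometry CategoryTheory TopologicalSpace Topology

namespace Groth.Agent.FibreDimChart

variable {X Y : Scheme.{u}} (f : X ⟶ Y)

/-- `dim_x(X_{f x})` is the local dimension of the subspace `f ⁻¹' {f x}` -/
theorem fibreDimAt_eq_localDim_preimage (x : X) :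
    FlatMor.fibreDimAt f x = FlatMor.localDim ↥(f ⁻¹' {f x}) ⟨x, rfl⟩ := by
  unfold FlatMor.fibreDimAt
  rw [← FieldExtLD.localDim_of_isOpenEmbedding (f.fiberHomeo (f x)).isOpenEmbedding (f.asFiber x)]
  congr 1
  exact (f.fiberHomeo (f x)).apply_symm_apply _

theorem fibreDimAt_fromSpec (U : Y.Opens) (hU : IsAffineOpen U) (V : X.Opens) (hV : IsAffineOpen V)
    (hVU : V ≤ f ⁻¹ᵁ U) (q : PrimeSpectrum Γ(X, V)) :
    letI := (f.appLE U V hVU).hom.toAlgebra
    ∀ Q : PrimeSpectrum ((q.asIdeal.under Γ(Y, U)).Fiber Γ(X, V)),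
      Q.asIdeal.comap (Algebra.TensorProduct.includeRight.toRingHom) = q.asIdeal →
      FlatMor.fibreDimAt f (hV.fromSpec q) =
        FlatMor.localDim (PrimeSpectrum ((q.asIdeal.under Γ(Y, U)).Fiber Γ(X, V))) Q := by
  let := (f.appLE U V hVU).hom.toAlgebra
  intro Q hQ
  let p : PrimeSpectrum Γ(Y, U) := ⟨q.asIdeal.under Γ(Y, U), inferInstance⟩
  let g : PrimeSpectrum Γ(X, V) → X := fun z => hV.fromSpec z
  have hg : IsOpenEmbedding g := hV.fromSpec.isOpenEmbedding
  have hsq : ∀ z : PrimeSpectrum Γ(X, V),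
      f (g z) = hU.fromSpec (PrimeSpectrum.comap (algebraMap Γ(Y, U) Γ(X, V)) z) := fun z => by
    have h : Spec.map (f.appLE U V hVU) ≫ hU.fromSpec = hV.fromSpec ≫ f :=
      IsAffineOpen.SpecMap_appLE_fromSpec f hU hV hVU
    exact (congr($h z)).symm
  have hset : PrimeSpectrum.comap (algebraMap Γ(Y, U) Γ(X, V)) ⁻¹' {p} =
      g ⁻¹' (f ⁻¹' {f (hV.fromSpec q)}) := by
    ext z
    simp only [Set.mem_preimage, Set.mem_singleton_iff]
    rw [hsq z, show f (hV.fromSpec q) = hU.fromSpec p from hsq q]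
    exact ⟨fun h => congrArg _ h, fun h => hU.fromSpec.isOpenEmbedding.injective h⟩
  let T : Set X := f ⁻¹' {f (hV.fromSpec q)}
  let e := (PrimeSpectrum.preimageHomeomorphFiber Γ(Y, U) Γ(X, V) p).symm.trans
    (Homeomorph.setCongr hset)
  have hemb : IsOpenEmbedding (T.restrictPreimage g ∘ e) :=
    (hg.restrictPreimage T).comp e.isOpenEmbedding
  rw [fibreDimAt_eq_localDim_preimage, ← FieldExtLD.localDim_of_isOpenEmbedding hemb Q]
  congr 1
  refine Subtype.ext ?_
  show g q = g (e Q).1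
  congr 1
  exact PrimeSpectrum.ext hQ.symm

theorem isOpen_fibreDimAt_le [LocallyOfFiniteType f] (n : ℕ) :
    IsOpen {x : X | FlatMor.fibreDimAt f x ≤ (n : WithBot ℕ∞)} := by
  refine isOpen_iff_forall_mem_open.mpr fun x hx => ?_
  obtain ⟨U, hU, V, hV, hVU, hxV⟩ := Unram.exists_chart f x
  have := f.finiteType_appLE hU hV hVU
  algebraize [(f.appLE U V hVU).hom]
  refine ⟨hV.fromSpec '' RelDim.dimLocus Γ(Y, U) Γ(X, V) n, ?_, ?_, ?_⟩
  · rintro _ ⟨q, hq, rfl⟩
    obtain ⟨Q, hQ⟩ := RelDim.exists_fibre_point Γ(Y, U) Γ(X, V) q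
    show FlatMor.fibreDimAt f (hV.fromSpec q) ≤ _
    rw [fibreDimAt_fromSpec f U hU V hV hVU q Q hQ]
    exact hq Q hQ
  · exact hV.fromSpec.isOpenEmbedding.isOpenMap _ (RelDim.isOpen_dimLocus _ _ n)
  · refine ⟨hV.primeIdealOf ⟨x, hxV⟩, fun Q hQ => ?_, hV.fromSpec_primeIdealOf ⟨x, hxV⟩⟩
    rw [← fibreDimAt_fromSpec f U hU V hV hVU _ Q hQ, hV.fromSpec_primeIdealOf ⟨x, hxV⟩]
    exact hx

theorem dim_fiber_eq_iSup (y : Y) :
    topologicalKrullDim ↥(f.fiber y) = ⨆ z : f.fiber y, FlatMor.localDim ↥(f.fiber y) z := by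
  refine le_antisymm (TopDimLib.dim_le fun p => ?_) (iSup_le TopDimLib.localDim_le_dim)
  obtain ⟨z, hz⟩ := p.head.isIrreducible.nonempty
  exact (TopDimLib.length_le_localDim p hz).trans (le_iSup (fun z => FlatMor.localDim _ z) z)

theorem fibreDimAt_le_dim_fiber (x : X) :
    FlatMor.fibreDimAt f x ≤ topologicalKrullDim ↥(f.fiber (f x)) :=
  TopDimLib.localDim_le_dim _

theorem dim_fiber_le_iff (y : Y) (c : WithBot ℕ∞) :
    topologicalKrullDim ↥(f.fiber y) ≤ c ↔ ∀ x : X, f x = y → FlatMor.fibreDimAt f x ≤ c := by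
  rw [dim_fiber_eq_iSup, iSup_le_iff]
  constructor
  · rintro h x rfl
    exact h _
  · intro h z
    have hy : f (f.fiberι y z) = y := (f.fiberHomeo y z).2
    have := h _ hy
    rw [fibreDimAt_eq_localDim_preimage] at this
    rw [← FieldExtLD.localDim_of_isOpenEmbedding (f.fiberHomeo y).isOpenEmbedding z]
    generalize hw : f.fiberι y z = x at this hy
    subst hy
    convert this using 2
    exact Subtype.ext hw

theorem fiber_nonempty_iff (y : Y) : Nonempty ↥(f.fiber y) ↔ y ∈ Set.range f := by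
  rw [(f.fiberHomeo y).nonempty_congr, Set.nonempty_coe_sort]
  exact Iff.rfl

theorem isOpen_dim_fiber_le_of_isClosedMap [LocallyOfFiniteType f] (hf : IsClosedMap f)
    (c : WithBot ℕ∞) : IsOpen {y : Y | topologicalKrullDim ↥(f.fiber y) ≤ c} := by
  have key : ∀ (P : WithBot ℕ∞), IsOpen {x : X | FlatMor.fibreDimAt f x ≤ P} →
      IsOpen {y : Y | topologicalKrullDim ↥(f.fiber y) ≤ P} := by
    intro P hP
    have : {y : Y | topologicalKrullDim ↥(f.fiber y) ≤ P} =
        (f '' {x : X | FlatMor.fibreDimAt f x ≤ P}ᶜ)ᶜ := by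
      ext y
      simp only [Set.mem_setOf_eq, Set.mem_compl_iff, Set.mem_image, dim_fiber_le_iff]
      exact ⟨fun h ⟨x, hx, hxy⟩ => hx (h x hxy), fun h x hxy => by
        by_contra hx; exact h ⟨x, hx, hxy⟩⟩
    rw [this]
    exact (hf _ hP.isClosed_compl).isOpen_compl
  induction c with
  | bot =>
    refine key ⊥ ?_
    convert isOpen_empty (X := X)
    refine Set.eq_empty_iff_forall_notMem.mpr fun x hx => ?_
    have h0 : (0 : WithBot ℕ∞) ≤ FlatMor.fibreDimAt f x := by
      obtain ⟨W, hW, hW'⟩ := TopDimLib.exists_localDim_eq (f.asFiber x)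
      rw [FlatMor.fibreDimAt, ← hW']
      have : Nonempty (W : Set ↥(f.fiber (f x))) := ⟨⟨_, hW⟩⟩
      have : Nonempty (IrreducibleCloseds (W : Set ↥(f.fiber (f x)))) :=
        ⟨⟨closure {⟨_, hW⟩}, isIrreducible_singleton.closure, isClosed_closure⟩⟩
      exact Order.krullDim_nonneg
    exact absurd (h0.trans hx) (by simp)
  | coe c =>
    induction c using ENat.recTopCoe with
    | top => exact key _ (by convert isOpen_univ (X := X); exact Set.eq_univ_of_forall fun x => show FlatMor.fibreDimAt f x ≤ _ by rw [WithBot.coe_top]; exact le_top)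
    | coe n => exact key _ (isOpen_fibreDimAt_le f n)

end Groth.Agent.FibreDimChart
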