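import Groth.Agent.FibreDimChart.Basic

/-!
# Bounds for the dimension of the fibres
-/

set_option autoImplicit false
universe u

open AlgebraicGeometry CategoryTheory TopologicalSpace Topology

namespace Groth.Agent.FibreDimChart

variable {X Y : Scheme.{u}} (f : X ⟶ Y)

theorem exists_nat_fibreDimAt_le [LocallyOfFiniteType f] (x : X) :
    ∃ n : ℕ, FlatMor.fibreDimAt f x ≤ (n : WithBot ℕ∞) := by
  obtain ⟨U, hU, V, hV, hVU, hxV⟩ := Unram.exists_chart f x
  have := f.finiteType_appLE hU hV hVU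
  algebraize [(f.appLE U V hVU).hom]
  obtain ⟨Q, hQ⟩ := RelDim.exists_fibre_point Γ(Y, U) Γ(X, V) (hV.primeIdealOf ⟨x, hxV⟩)
  have hn : Nontrivial (((hV.primeIdealOf ⟨x, hxV⟩).asIdeal.under Γ(Y, U)).Fiber Γ(X, V)) :=
    PrimeSpectrum.nonempty_iff_nontrivial.mp ⟨Q⟩
  obtain ⟨n, g, -, -, hd⟩ := DimTheory.exists_normalization
    ((hV.primeIdealOf ⟨x, hxV⟩).asIdeal.under Γ(Y, U)).ResidueField
    (((hV.primeIdealOf ⟨x, hxV⟩).asIdeal.under Γ(Y, U)).Fiber Γ(X, V))
  refine ⟨n, ?_⟩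
  have e := fibreDimAt_fromSpec f U hU V hV hVU _ Q hQ
  rw [hV.fromSpec_primeIdealOf ⟨x, hxV⟩] at e
  rw [show FlatMor.fibreDimAt f x = _ from e, ← hd,
    ← PrimeSpectrum.topologicalKrullDim_eq_ringKrullDim]
  exact TopDimLib.localDim_le_dim Q

theorem exists_bound [CompactSpace Y] [LocallyOfFiniteType f] [QuasiCompact f] :
    ∃ n : ℕ, ∀ y : Y, topologicalKrullDim ↥(f.fiber y) ≤ (n : WithBot ℕ∞) := by
  have : CompactSpace X := QuasiCompact.compactSpace_of_compactSpace f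
  obtain ⟨n, hn⟩ := (isCompact_univ (X := X)).elim_directed_cover
    (fun n : ℕ => {x : X | FlatMor.fibreDimAt f x ≤ (n : WithBot ℕ∞)})
    (fun n => isOpen_fibreDimAt_le f n)
    (fun x _ => Set.mem_iUnion.mpr (exists_nat_fibreDimAt_le f x))
    (Monotone.directed_le fun a b hab x hx => le_trans (α := WithBot ℕ∞) hx (by exact_mod_cast hab : (a : WithBot ℕ∞) ≤ (b : WithBot ℕ∞)))
  exact ⟨n, fun y => (dim_fiber_le_iff f y _).mpr fun x _ => hn (Set.mem_univ x)⟩

theorem isClosed_le_dim_fiber [LocallyOfFiniteType f] (hf : IsClosedMap f) (n : ℕ) :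
    IsClosed {y : Y | (n : WithBot ℕ∞) ≤ topologicalKrullDim ↥(f.fiber y)} := by
  rw [← isOpen_compl_iff]
  cases n with
  | zero =>
    convert isOpen_dim_fiber_le_of_isClosedMap f hf ⊥ using 1
    ext y
    simp only [Nat.cast_zero, Set.mem_setOf_eq, le_bot_iff, Set.mem_compl_iff, not_le,
      WithBot.lt_zero_iff_eq_bot]
  | succ m =>
    convert isOpen_dim_fiber_le_of_isClosedMap f hf (m : WithBot ℕ∞) using 1
    ext y
    simp only [Nat.cast_add, Nat.cast_one, Set.mem_compl_iff, Set.mem_setOf_eq, not_le,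
      ENat.WithBot.lt_add_one_iff]

end Groth.Agent.FibreDimChart
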