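import Groth.Agent.FibreDimChart.FlatDim
import Groth.Agent.LimSch.ClosureRange

/-!
# Fibre dimension bounds of flat morphisms spread from a dense open of the base
-/

set_option autoImplicit false
universe u

open AlgebraicGeometry CategoryTheory TopologicalSpace Topology

namespace Groth.Agent.FibreDimChart

variable {X S : Scheme.{u}} (f : X ⟶ S)

/-- The fibre dimension is local on source and target. -/
theorem fibreDimAt_resLE (W : S.Opens) (V : X.Opens) (e : V ≤ f ⁻¹ᵁ W) (z : (V : Scheme.{u})) :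
    FlatMor.fibreDimAt (f.resLE W V e) z = FlatMor.fibreDimAt f z.1 := by
  let g := f.resLE W V e
  let T : Set X := f ⁻¹' {f z.1}
  have hval : ∀ v : (V : Scheme.{u}), (g v).1 = f v.1 := fun v => Scheme.Hom.coe_resLE_apply f e v
  have hset : g ⁻¹' {g z} = V.ι ⁻¹' T := by
    ext v
    show g v = g z ↔ f v.1 = f z.1
    rw [← hval v, ← hval z]
    exact Subtype.val_injective.eq_iff.symm
  have hemb : IsOpenEmbedding (T.restrictPreimage (fun v => V.ι v) ∘ Homeomorph.setCongr hset) :=
    (V.ι.isOpenEmbedding.restrictPreimage T).comp (Homeomorph.setCongr hset).isOpenEmbedding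
  rw [fibreDimAt_eq_localDim_preimage, fibreDimAt_eq_localDim_preimage,
    ← FieldExtLD.localDim_of_isOpenEmbedding hemb ⟨z, rfl⟩]
  rfl

theorem exists_generization_mem {U : S.Opens} (hU : Dense (U : Set S))
    (hc : IsRetrocompact (U : Set S)) (s : S) : ∃ s' ∈ U, s' ⤳ s := by
  have : QuasiCompact U.ι :=
    quasiCompact_iff_isSpectralMap.mpr (IsRetrocompact_iff_isSpectralMap_subtypeVal.mp hc)
  obtain ⟨u, hu⟩ := LimSch.exists_specializes_of_mem_closure_range U.ι
    (y := s) (by rw [U.range_ι]; exact hU s)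
  exact ⟨U.ι u, u.2, hu⟩

theorem fibreDimAt_le_of_dense [Flat f] [LocallyOfFiniteType f] (U : S.Opens)
    (hU : Dense (U : Set S)) (e : ℕ) (hle : ∀ x : X, f x ∈ U → FlatMor.fibreDimAt f x ≤ (e : WithBot ℕ∞))
    (h : LocallyOfFinitePresentation f ∨ IsRetrocompact (U : Set S)) (x : X) :
    FlatMor.fibreDimAt f x ≤ (e : WithBot ℕ∞) := by
  obtain ⟨W, hW, V, hV, hVW, hxV⟩ := Unram.exists_chart f x
  let g := f.resLE W V hVW
  have hover : ∀ w : (W : Scheme.{u}), w.1 ∈ U →
      topologicalKrullDim ↥(g.fiber w) ≤ (e : WithBot ℕ∞) := by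
    intro w hw
    refine (dim_fiber_le_iff g w _).mpr fun z hz => ?_
    rw [fibreDimAt_resLE]
    refine hle _ ?_
    rw [← Scheme.Hom.coe_resLE_apply f hVW z]
    exact (congrArg Subtype.val hz).symm ▸ hw
  have hz : FlatMor.fibreDimAt g (⟨x, hxV⟩ : (V : Scheme.{u})) = FlatMor.fibreDimAt f x :=
    fibreDimAt_resLE f W V hVW _
  rw [← hz]
  refine (fibreDimAt_le_dim_fiber g _).trans ?_
  rcases h with hfp | hc
  · have : QuasiCompact g := by
      have : IsAffine (V : Scheme.{u}) := hV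
      have : IsAffine (W : Scheme.{u}) := hW
      infer_instance
    by_contra hne
    obtain ⟨w, hw, hwU⟩ := (hU.preimage W.2.isOpenEmbedding_subtypeVal.isOpenMap).inter_open_nonempty _
      (isOpen_lt_dim_fiber g (e : WithBot ℕ∞)) ⟨_, not_le.mp hne⟩
    exact (not_le.mpr hw) (hover w hwU)
  · obtain ⟨s', hs'U, hs'⟩ := exists_generization_mem hU hc (f x)
    have hs'W : s' ∈ W := hs'.mem_open W.2 (hVW hxV)
    refine (dim_fiber_le_of_specializes g (s' := ⟨s', hs'W⟩) ?_).trans (hover _ hs'U)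
    rw [← W.ι.isOpenEmbedding.isInducing.specializes_iff]
    show s' ⤳ (g (⟨x, hxV⟩ : (V : Scheme.{u}))).1
    rw [Scheme.Hom.coe_resLE_apply]
    exact hs'

end Groth.Agent.FibreDimChart
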