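import Groth.Agent.FibreDimChart.FlatDim
import Groth.Agent.DimTheory.ZeroDim

/-!
# Flat proper morphisms which are finite over a dense open
-/

set_option autoImplicit false
universe u

open AlgebraicGeometry CategoryTheory TopologicalSpace Topology

namespace Groth.Agent.FibreDimChart

variable {X S : Scheme.{u}} (f : X ⟶ S)

theorem dim_fiber_le_zero_of_finite_restrict (U : S.Opens) [IsFinite (f ∣_ U)] (s : S) (hs : s ∈ U) :
    topologicalKrullDim ↥(f.fiber s) ≤ 0 := by
  let s' : (U : Scheme.{u}) := ⟨s, hs⟩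
  have hdisc : _root_.IsDiscrete ((f ∣_ U) ⁻¹' {s'}) :=
    (locallyQuasiFinite_iff_isDiscrete_preimage_singleton (f := f ∣_ U)).mp inferInstance s'
  have himg : (f ⁻¹ᵁ U).ι '' ((f ∣_ U) ⁻¹' {s'}) = f ⁻¹' {s} := by
    ext x
    constructor
    · rintro ⟨z, hz, rfl⟩
      show f ((f ⁻¹ᵁ U).ι z) = s
      rw [← Scheme.Hom.comp_apply, ← morphismRestrict_ι, Scheme.Hom.comp_apply,
        Set.mem_singleton_iff.mp hz]
      rfl
    · intro (hx : f x = s)
      refine ⟨⟨x, show f x ∈ U from hx.symm ▸ hs⟩, ?_, rfl⟩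
      refine Set.mem_singleton_iff.mpr (U.ι.isOpenEmbedding.injective ?_)
      rw [← Scheme.Hom.comp_apply, morphismRestrict_ι, Scheme.Hom.comp_apply]
      exact hx
  have hd2 : _root_.IsDiscrete (f ⁻¹' {s}) := by
    rw [← himg]; exact hdisc.image (f ⁻¹ᵁ U).ι.isOpenEmbedding.isInducing
  have : DiscreteTopology ↥(f ⁻¹' {s}) := hd2.to_subtype
  rw [(f.fiberHomeo s).isHomeomorph.topologicalKrullDim_eq]
  exact topologicalKrullDim_zero_of_discreteTopology _

theorem isFinite_of_flat_of_dense [Flat f] [IsProper f] [LocallyOfFinitePresentation f] (U : S.Opens)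
    (hU : Dense (U : Set S)) [IsFinite (f ∣_ U)] : IsFinite f := by
  suffices LocallyQuasiFinite f from IsFinite.of_isProper_of_locallyQuasiFinite f
  have hdim : ∀ s : S, topologicalKrullDim ↥(f.fiber s) ≤ 0 := by
    intro s
    by_contra h
    obtain ⟨w, hw, hwU⟩ := hU.inter_open_nonempty _ (isOpen_lt_dim_fiber f 0) ⟨s, not_le.mp h⟩
    exact not_le.mpr hw (dim_fiber_le_zero_of_finite_restrict f U w hwU)
  refine .of_finite_preimage_singleton _ fun s => ?_
  have : LocallyOfFiniteType (f.fiberToSpecResidueField s) :=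
    MorphismProperty.pullback_snd _ _ inferInstance
  have : QuasiCompact (f.fiberToSpecResidueField s) :=
    MorphismProperty.pullback_snd _ _ inferInstance
  have := @DimTheory.ZeroDim.finite_of_dim_le_zero ↑(S.residueField s) _ (f.fiber s)
    (f.fiberToSpecResidueField s) inferInstance inferInstance (hdim s)
  exact Set.finite_coe_iff.mp ((f.fiberHomeo s).toEquiv.finite_iff.mp this)

end Groth.Agent.FibreDimChart
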