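import Groth.Agent.FibreDimChart.Constr
import Groth.Agent.GenFinite.Basic
import Groth.Agent.LimSch.ClosureRange

/-!
# The fibre dimension near the generic point of the target
-/

set_option autoImplicit false
universe u

open AlgebraicGeometry CategoryTheory TopologicalSpace Topology

namespace Groth.Agent.FibreDimChart

variable {X Y : Scheme.{u}} (f : X ⟶ Y)

theorem exists_subscheme {Z : Set X} (hZ : IsClosed Z) :
    ∃ (W : Scheme.{u}) (i : W ⟶ X), IsClosedImmersion i ∧ Set.range i = Z :=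
  ⟨_, (Scheme.IdealSheafData.vanishingIdeal ⟨Z, hZ⟩).subschemeι, inferInstance, by
    rw [Scheme.IdealSheafData.range_subschemeι, Scheme.IdealSheafData.coe_support_vanishingIdeal]
    rfl⟩

/-- A closed subset missing the generic fibre misses the fibres over a neighbourhood. -/
theorem exists_open_forall_notMem [IrreducibleSpace Y] [QuasiCompact f] {Z : Set X} (hZ : IsClosed Z)
    (hη : ∀ x ∈ Z, f x ≠ genericPoint Y) :
    ∃ V : Y.Opens, genericPoint Y ∈ V ∧ ∀ x ∈ Z, f x ∉ V := by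
  obtain ⟨W, i, _, hi⟩ := exists_subscheme hZ
  refine ⟨⟨(closure (Set.range (i ≫ f)))ᶜ, isClosed_closure.isOpen_compl⟩, fun h => ?_, ?_⟩
  · obtain ⟨w, hw⟩ := LimSch.exists_specializes_of_mem_closure_range (i ≫ f) h
    exact hη (i w) (hi.subset ⟨w, rfl⟩) ((hw.antisymm (genericPoint_specializes _)).eq)
  · rintro x hx hxV
    obtain ⟨w, rfl⟩ := hi.symm.subset hx
    exact hxV (subset_closure ⟨w, rfl⟩)

theorem genericPoint_mem_max [IrreducibleSpace Y] : genericPoint Y ∈ Birat.Max Y := by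
  show closure {genericPoint Y} ∈ irreducibleComponents (Y : Type u)
  rw [genericPoint_closure, irreducibleComponents_eq_singleton]
  exact Set.mem_singleton _

/-- The image of the closure of a closed point of the generic fibre contains a neighbourhood of the
generic point. -/
theorem exists_open_subset_image_closure [IrreducibleSpace Y] [LocallyOfFiniteType f] {ξ : X}
    (hξ : f ξ = genericPoint Y)
    (hc : ∀ x : X, ξ ⤳ x → f x = genericPoint Y → x = ξ) :
    ∃ V : Y.Opens, genericPoint Y ∈ V ∧ ∀ y ∈ V, ∃ x : X, ξ ⤳ x ∧ f x = y := by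
  obtain ⟨W, i, _, hi⟩ := exists_subscheme (X := X) (Z := closure {ξ}) isClosed_closure
  obtain ⟨w₀, hw₀⟩ : ξ ∈ Set.range i := hi.symm.subset (subset_closure rfl)
  have hg : (i ≫ f) w₀ = genericPoint Y := by rw [Scheme.Hom.comp_apply, hw₀, hξ]
  obtain ⟨U₀, hU₀, V₀, hV₀, hVU, hw₀V⟩ := Unram.exists_chart (i ≫ f) w₀
  obtain ⟨U', V, e, hU', hV, hηV, -, -, hfib, hfin⟩ :=
    GenFinite.exists_resLE_finite (i ≫ f) (genericPoint Y) genericPoint_mem_max V₀ hV₀ hU₀
      (hg ▸ hVU hw₀V) hVU (by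
        refine (Set.finite_singleton w₀).subset ?_
        rintro w ⟨hw, -⟩
        refine Set.mem_singleton_iff.mpr (i.isClosedEmbedding.injective ?_)
        rw [hw₀]
        exact hc _ (specializes_iff_mem_closure.mpr (hi.subset ⟨w, rfl⟩)) hw)
  refine ⟨V, hηV, fun y hy => ?_⟩
  let g := (i ≫ f).resLE V U' e
  have hw₀U : w₀ ∈ U' := hfib ⟨hg, hw₀V⟩
  have hmem : (⟨y, hy⟩ : V) ∈ Set.range g := by
    have hη : (⟨genericPoint Y, hηV⟩ : V) ∈ Set.range g :=
      ⟨⟨w₀, hw₀U⟩, Subtype.ext ((Scheme.Hom.coe_resLE_apply (i ≫ f) e _).trans hg)⟩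
    refine (show (⟨genericPoint Y, hηV⟩ : V) ⤳ ⟨y, hy⟩ from ?_).mem_closed
      g.isClosedMap.isClosed_range hη
    exact Topology.IsInducing.subtypeVal.specializes_iff.mp (genericPoint_specializes y)
  obtain ⟨w, hw⟩ := hmem
  refine ⟨i w.1, specializes_iff_mem_closure.mpr (hi.subset ⟨w.1, rfl⟩), ?_⟩
  rw [← Scheme.Hom.comp_apply, ← Scheme.Hom.coe_resLE_apply (i ≫ f) e w]
  exact congrArg Subtype.val hw

theorem exists_closedPoint_fiber [QuasiCompact f] {y : Y} {z : X} (hz : f z = y) :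
    ∃ ξ : X, z ⤳ ξ ∧ f ξ = y ∧ ∀ x : X, ξ ⤳ x → f x = y → x = ξ := by
  obtain ⟨z₀, hz₀⟩ : ∃ z₀ : f.fiber y, f.fiberι y z₀ = z :=
    ⟨(f.fiberHomeo y).symm ⟨z, hz⟩, f.fiberι_fiberHomeo_symm y _⟩
  obtain ⟨ξ₀, hξ₀, hcl⟩ := (isClosed_closure (s := ({z₀} : Set (f.fiber y)))).exists_closed_singleton
    ⟨z₀, subset_closure rfl⟩
  refine ⟨f.fiberι y ξ₀, hz₀ ▸ (specializes_iff_mem_closure.mpr hξ₀).map (f.fiberι y).continuous,
    (f.fiberHomeo y ξ₀).2, fun x hx hxy => ?_⟩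
  obtain ⟨x₀, rfl⟩ : x ∈ Set.range (f.fiberι y) := by rw [f.range_fiberι]; exact hxy
  rw [(f.fiberι y).isEmbedding.isInducing.specializes_iff, specializes_iff_mem_closure,
    hcl.closure_eq] at hx
  rw [Set.mem_singleton_iff.mp hx]

theorem exists_open_dim_fiber_eq [IrreducibleSpace Y] [LocallyOfFiniteType f] [QuasiCompact f] (n : ℕ)
    (h : topologicalKrullDim ↥(f.fiber (genericPoint Y)) = (n : WithBot ℕ∞)) :
    ∃ V : Y.Opens, genericPoint Y ∈ V ∧ ∀ y ∈ V, topologicalKrullDim ↥(f.fiber y) = (n : WithBot ℕ∞) := by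
  obtain ⟨V₁, hV₁, hle⟩ := exists_open_forall_notMem f (isOpen_fibreDimAt_le f n).isClosed_compl
    (fun x hx hxη => hx ((dim_fiber_le_iff f _ _).mp h.le x hxη))
  obtain ⟨z, hz, hzn⟩ := exists_fibreDimAt_ge f (y := genericPoint Y) n h.ge
  obtain ⟨ξ, hzξ, hξ, hc⟩ := exists_closedPoint_fiber f hz
  obtain ⟨V₂, hV₂, hge⟩ := exists_open_subset_image_closure f hξ hc
  refine ⟨V₁ ⊓ V₂, ⟨hV₁, hV₂⟩, fun y hy => le_antisymm ?_ ?_⟩
  · refine (dim_fiber_le_iff f y _).mpr fun x hx => ?_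
    by_contra hxn
    exact hle x hxn (hx ▸ hy.1)
  · obtain ⟨x, hx, rfl⟩ := hge y hy.2
    exact ((hzn.trans (fibreDimAt_le_of_specializes f (hzξ.trans hx))).trans
      (fibreDimAt_le_dim_fiber f x))

end Groth.Agent.FibreDimChart
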