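import Groth.Agent.FibreDimChart.ValFibre
import Groth.Agent.DimTheory.IrrFibres
import Groth.Agent.RedSepLib.Reduced

/-!
# Fibres of irreducible schemes dominating a Prüfer domain
-/

set_option autoImplicit false
universe u

open AlgebraicGeometry CategoryTheory TopologicalSpace Topology

namespace Groth.Agent.FibreDimChart

variable {R : Type u} [CommRing R] [IsDomain R] {X : Scheme.{u}}

theorem flat_of_dominant (hR : ∀ (p : Ideal R) [p.IsPrime], ValuationRing (Localization.AtPrime p))
    [IsIntegral X] (f : X ⟶ Spec (CommRingCat.of R)) [IsDominant f] : Flat f := by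
  have key : ∀ (S : CommRingCat.{u}) (j : Spec S ⟶ X), IsOpenImmersion j → Flat (j ≫ f) := by
    intro S j _
    obtain ⟨φ, hφ⟩ := Spec.map_surjective (j ≫ f)
    rw [← hφ, HasRingHomProperty.Spec_iff (P := @Flat)]
    algebraize [φ.hom]
    show Module.Flat R S
    rcases subsingleton_or_nontrivial S with h | h
    · infer_instance
    · have : Nonempty (Spec S) := inferInstanceAs (Nonempty (PrimeSpectrum S))
      have : IsIntegral (Spec S) := isIntegral_of_isOpenImmersion j
      have hdom : IsDomain S := (affine_isIntegral_iff S).mp this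
      rw [Module.Flat.flat_iff_torsion_eq_bot_of_valuationRing_localization_isMaximal
        (fun P _ => hR P), ← Submodule.isTorsionFree_iff_torsion_eq_bot,
        Module.isTorsionFree_iff_algebraMap_injective]
      have : IsDominant j :=
        ⟨(j.isOpenEmbedding.isOpen_range.dense (Set.range_nonempty _))⟩
      have hd : IsDominant (Spec.map φ) := hφ.symm ▸ (inferInstance : IsDominant (j ≫ f))
      have hker := (PrimeSpectrum.denseRange_comap_iff_ker_le_nilRadical φ.hom).mp hd.denseRange
      rw [nilradical_eq_zero] at hker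
      exact (RingHom.injective_iff_ker_eq_bot _).mpr (le_bot_iff.mp hker)
  exact IsZariskiLocalAtSource.of_openCover X.affineCover fun i =>
    key _ (X.affineCover.f i) (X.affineCover.map_prop i)

variable [IrreducibleSpace X] (f : X ⟶ Spec (CommRingCat.of R)) [LocallyOfFiniteType f]

theorem dim_fiber_le_generic (hR : ∀ (p : Ideal R) [p.IsPrime], ValuationRing (Localization.AtPrime p))
    [IsDominant f] (γ : Spec (CommRingCat.of R)) :
    topologicalKrullDim ↥(f.fiber γ) ≤
      topologicalKrullDim ↥(f.fiber (genericPoint (Spec (CommRingCat.of R)))) := by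
  obtain ⟨W, i, _, hi, _⟩ : ∃ (W : Scheme.{u}) (i : W ⟶ X), IsClosedImmersion i ∧
      Function.Surjective i ∧ IsReduced W :=
    ⟨_, (Scheme.IdealSheafData.vanishingIdeal (⊤ : TopologicalSpace.Closeds X)).subschemeι,
      inferInstance, Set.range_eq_univ.mp (by
        rw [Scheme.IdealSheafData.range_subschemeι, Scheme.IdealSheafData.coe_support_vanishingIdeal]
        rfl), RedSepLib.isReduced_vanishingIdeal _⟩
  let e : W ≃ₜ X := i.isClosedEmbedding.isEmbedding.toHomeomorphOfSurjective hi
  have : IrreducibleSpace W := by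
    have : Nonempty W := e.toEquiv.nonempty_congr.mpr ⟨genericPoint X⟩
    rw [irreducibleSpace_def]
    have := (IrreducibleSpace.isIrreducible_univ X).image e.symm e.symm.continuous.continuousOn
    rwa [Set.image_univ, e.symm.surjective.range_eq] at this
  have : IsIntegral W := isIntegral_of_irreducibleSpace_of_isReduced W
  have : IsDominant i := ⟨hi.denseRange⟩
  have : Flat (i ≫ f) := flat_of_dominant hR _
  have hfib : ∀ s, topologicalKrullDim ↥((i ≫ f).fiber s) = topologicalKrullDim ↥(f.fiber s) := by
    intro s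
    rw [((i ≫ f).fiberHomeo s).isHomeomorph.topologicalKrullDim_eq, (f.fiberHomeo s).isHomeomorph.topologicalKrullDim_eq]
    exact (e.sets (s := (i ≫ f) ⁻¹' {s}) (t := f ⁻¹' {s}) rfl).isHomeomorph.topologicalKrullDim_eq _
  rw [← hfib, ← hfib]
  exact dim_fiber_le_of_specializes (i ≫ f) (genericPoint_specializes γ)

theorem dim_fiber_eq_generic (hR : ∀ (p : Ideal R) [p.IsPrime], ValuationRing (Localization.AtPrime p))
    [IsDominant f] (γ : Spec (CommRingCat.of R)) (h0 : Nonempty ↥(f.fiber γ)) :
    topologicalKrullDim ↥(f.fiber γ) =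
      topologicalKrullDim ↥(f.fiber (genericPoint (Spec (CommRingCat.of R)))) := by
  refine le_antisymm (dim_fiber_le_generic f hR γ) ?_
  obtain ⟨z⟩ := h0
  have hz : f (f.fiberι γ z) = γ := (f.fiberHomeo γ z).2
  exact (dim_genericFiber_le f (f.fiberι γ z)).trans ((fibreDimAt_le_dim_fiber f _).trans (by rw [hz]))

theorem dim_component_eq_generic (hR : ∀ (p : Ideal R) [p.IsPrime], ValuationRing (Localization.AtPrime p))
    [IsDominant f] (γ : Spec (CommRingCat.of R)) (Z : Set ↥(f.fiber γ))
    (hZ : Z ∈ irreducibleComponents ↥(f.fiber γ)) :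
    topologicalKrullDim ↥Z =
      topologicalKrullDim ↥(f.fiber (genericPoint (Spec (CommRingCat.of R)))) := by
  refine le_antisymm ((topologicalKrullDim_subspace_le _ Z).trans (dim_fiber_le_generic f hR γ)) ?_
  have hlft : LocallyOfFiniteType (f.fiberToSpecResidueField γ) :=
    MorphismProperty.pullback_snd _ _ inferInstance
  let ζ := hZ.1.genericPoint
  have hζ : closure {ζ} = Z := DimTheory.component_eq_closure hZ
  have hmax : ∀ z : f.fiber γ, ζ ≤ z → z = ζ := fun z hz =>
    DimTheory.mem_component_isMax hZ z hz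
  refine (dim_genericFiber_le f (f.fiberι γ ζ)).trans ?_
  rw [← localDim_fiber_eq_fibreDimAt, @FieldExtLD.localDim_eq _ _ (f.fiber γ)
    (f.fiberToSpecResidueField γ) hlft ζ, ← hζ, DimTheory.topologicalKrullDim_closure]
  rw [Order.coheight_eq_zero.mpr fun z hz => (hmax z hz).le, add_zero]

end Groth.Agent.FibreDimChart
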