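import Groth.Agent.FibreDimChart.FlatDim
import Mathlib.RingTheory.Flat.TorsionFree

/-!
# Fibres of a domain of finite type over a valuation ring
-/

set_option autoImplicit false
universe u

open AlgebraicGeometry CategoryTheory TopologicalSpace Topology TensorProduct

namespace Groth.Agent.FibreDimChart

theorem dim_fiber_Spec {A B : Type u} [CommRing A] [CommRing B] [Algebra A B] (p : PrimeSpectrum A) :
    topologicalKrullDim ↥((Spec.map (CommRingCat.ofHom (algebraMap A B))).fiber p) =
      ringKrullDim (p.asIdeal.Fiber B) := by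
  rw [← PrimeSpectrum.topologicalKrullDim_eq_ringKrullDim]
  exact (((Spec.map (CommRingCat.ofHom (algebraMap A B))).fiberHomeo p).trans
    (PrimeSpectrum.preimageHomeomorphFiber A B p)).isHomeomorph.topologicalKrullDim_eq _

theorem dim_special_eq_generic {R S : Type u} [CommRing R] [IsDomain R] [ValuationRing R] [CommRing S]
    [IsDomain S] [Algebra R S] (hinj : Function.Injective (algebraMap R S)) [Algebra.FiniteType R S]
    [Nontrivial (IsLocalRing.ResidueField R ⊗[R] S)] :
    ringKrullDim (IsLocalRing.ResidueField R ⊗[R] S) = ringKrullDim (FractionRing R ⊗[R] S) := by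
  have : Module.IsTorsionFree R S := Module.isTorsionFree_iff_algebraMap_injective.mpr hinj
  have : Module.Flat R S := by
    rw [Module.Flat.flat_iff_torsion_eq_bot_of_isBezout, ← Submodule.isTorsionFree_iff_torsion_eq_bot]
    infer_instance
  refine le_antisymm dim_special_le_dim_generic ?_
  let m : PrimeSpectrum R := IsLocalRing.closedPoint R
  let η : PrimeSpectrum R := ⟨⊥, Ideal.isPrime_bot⟩
  let f := Spec.map (CommRingCat.ofHom (algebraMap R S))
  let ek : IsLocalRing.ResidueField R ≃ₐ[R] m.asIdeal.ResidueField :=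
    AlgEquiv.ofBijective
      (IsScalarTower.toAlgHom R (R ⧸ IsLocalRing.maximalIdeal R) (IsLocalRing.maximalIdeal R).ResidueField)
      (IsLocalRing.maximalIdeal R).bijective_algebraMap_quotient_residueField
  have hk : ringKrullDim (IsLocalRing.ResidueField R ⊗[R] S) = topologicalKrullDim ↥(f.fiber m) := by
    rw [dim_fiber_Spec m]
    exact ringKrullDim_eq_of_ringEquiv
      (Algebra.TensorProduct.congr ek (AlgEquiv.refl : S ≃ₐ[R] S)).toRingEquiv
  have hK : ringKrullDim (FractionRing R ⊗[R] S) = topologicalKrullDim ↥(f.fiber η) := by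
    rw [dim_fiber_Spec η]
    exact ringKrullDim_eq_of_ringEquiv
      (Algebra.TensorProduct.congr (FractionRing.algEquiv R η.asIdeal.ResidueField)
        (AlgEquiv.refl : S ≃ₐ[R] S)).toRingEquiv
  rw [hk, hK]
  have hη : genericPoint ↥(Spec (CommRingCat.of R)) = η :=
    genericPoint_eq_bot_of_affine (CommRingCat.of R)
  have : IsDominant f := ⟨(PrimeSpectrum.denseRange_comap_iff_ker_le_nilRadical _).mpr (by
    rw [show RingHom.ker (CommRingCat.ofHom (algebraMap R S)).hom = ⊥ from
      (RingHom.injective_iff_ker_eq_bot _).mp hinj]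
    exact bot_le)⟩
  have : LocallyOfFiniteType f :=
    (HasRingHomProperty.Spec_iff (P := @LocallyOfFiniteType)).mpr
      (RingHom.finiteType_algebraMap.mpr ‹_›)
  obtain ⟨z⟩ : Nonempty ↥(f.fiber m) := by
    rw [(((f.fiberHomeo m).trans (PrimeSpectrum.preimageHomeomorphFiber R S m))).nonempty_congr,
      PrimeSpectrum.nonempty_iff_nontrivial]
    exact (Algebra.TensorProduct.congr ek (AlgEquiv.refl : S ≃ₐ[R] S)).symm.toEquiv.nontrivial
  have hz : f (f.fiberι m z) = m := (f.fiberHomeo m z).2
  have h1 := dim_genericFiber_le f (f.fiberι m z)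
  rw [hη] at h1
  have h2 := fibreDimAt_le_dim_fiber f (f.fiberι m z)
  rw [hz] at h2
  exact h1.trans h2

end Groth.Agent.FibreDimChart
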